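import Mathlib

/-!
# Arithmetic of the degree equations in the principal block of small defect
-/

set_option autoImplicit false

namespace Cfsg.Agent.Lib.H66.SmallCofactor

/-- The only primes dividing `4 * p ^ a * q ^ b`. -/
theorem prime_dvd_cases {r c p q a b : ℕ} (hr : r.Prime) (hp : p.Prime) (hq : q.Prime)
    (h : r ∣ c * p ^ a * q ^ b) : r ∣ c ∨ r = p ∨ r = q := by
  rcases hr.dvd_mul.1 h with h | h
  · rcases hr.dvd_mul.1 h with h | h
    · exact Or.inl h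
    · exact Or.inr (Or.inl ((Nat.prime_dvd_prime_iff_eq hr hp).1 (hr.dvd_of_dvd_pow h)))
  · exact Or.inr (Or.inr ((Nat.prime_dvd_prime_iff_eq hr hq).1 (hr.dvd_of_dvd_pow h)))

/-- The sign pattern with `q' = 1 + x₁ + x₂`: impossible with two odd primes. -/
theorem not_three_coprime_factors {p q a b x r y : ℕ} (hp : p.Prime) (hq : q.Prime) (hp2 : p ≠ 2)
    (hq2 : q ≠ 2) (hx : x + 1 = 4 * r) (hy : x = 2 * y + 1) (hr : 3 ≤ r)
    (hdx : x ∣ 4 * p ^ a * q ^ b) (hdy : y ∣ 4 * p ^ a * q ^ b) (hdr : r ∣ 4 * p ^ a * q ^ b) :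
    False := by
  have hcop : ∀ l : ℕ, l.Prime → (l ∣ x → l ∣ y → False) ∧ (l ∣ x → l ∣ r → False) ∧
      (l ∣ y → l ∣ r → False) := by
    intro l hl
    refine ⟨fun h1 h2 => ?_, fun h1 h2 => ?_, fun h1 h2 => ?_⟩
    · exact hl.not_dvd_one ((Nat.dvd_add_right (h2.mul_left 2)).1 (hy ▸ h1))
    · exact hl.not_dvd_one ((Nat.dvd_add_right h1).1 (hx ▸ h2.mul_left 4))
    · have : y + 1 = 2 * r := by omega
      exact hl.not_dvd_one ((Nat.dvd_add_right h1).1 (this ▸ h2.mul_left 2))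
  have hsel : ∀ n : ℕ, n ≠ 1 → Odd n → n ∣ 4 * p ^ a * q ^ b → p ∣ n ∨ q ∣ n := by
    intro n hn hodd hd
    obtain ⟨l, hl, hln⟩ := Nat.exists_prime_and_dvd hn
    have hl2 : ¬ l ∣ 4 := fun h => by
      have : l = 2 := (Nat.prime_dvd_prime_iff_eq hl Nat.prime_two).1
        (hl.dvd_of_dvd_pow (show l ∣ 2 ^ 2 from h))
      subst this
      exact (Nat.not_even_iff_odd.2 hodd) (even_iff_two_dvd.2 hln)
    rcases (prime_dvd_cases hl hp hq (hln.trans hd)).resolve_left hl2 with rfl | rfl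
    · exact Or.inl hln
    · exact Or.inr hln
  have hxy : (p ∣ x ∧ q ∣ y) ∨ (q ∣ x ∧ p ∣ y) := by
    have hA := hsel x (by omega) (Nat.odd_iff.2 (by omega)) hdx
    have hB := hsel y (by omega) (Nat.odd_iff.2 (by omega)) hdy
    rcases hA with hA | hA <;> rcases hB with hB | hB
    · exact ((hcop p hp).1 hA hB).elim
    · exact Or.inl ⟨hA, hB⟩
    · exact Or.inr ⟨hA, hB⟩
    · exact ((hcop q hq).1 hA hB).elim
  have hrp : ¬ p ∣ r ∧ ¬ q ∣ r := by
    rcases hxy with ⟨h1, h2⟩ | ⟨h1, h2⟩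
    · exact ⟨(hcop p hp).2.1 h1, (hcop q hq).2.2 h2⟩
    · exact ⟨(hcop p hp).2.2 h2, (hcop q hq).2.1 h1⟩
  have hr4 : r ∣ 4 := by
    refine Nat.Coprime.dvd_of_dvd_mul_right ?_ ((Nat.Coprime.dvd_of_dvd_mul_right ?_ hdr))
    · exact ((hp.coprime_iff_not_dvd.2 hrp.1).symm).pow_right a
    · exact ((hq.coprime_iff_not_dvd.2 hrp.2).symm).pow_right b
  have hr' : r = 4 := by
    have := Nat.le_of_dvd (by norm_num) hr4
    interval_cases r
    · norm_num at hr4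
    · rfl
  -- now `x = 15` has two prime divisors and `y = 7` a third
  have hx15 : x = 15 := by omega
  have hy7 : y = 7 := by omega
  subst hx15 hy7
  have h3 := prime_dvd_cases (by norm_num : Nat.Prime 3) hp hq
    ((by norm_num : 3 ∣ 15).trans hdx)
  have h5 := prime_dvd_cases (by norm_num : Nat.Prime 5) hp hq
    ((by norm_num : 5 ∣ 15).trans hdx)
  have h7 := prime_dvd_cases (by norm_num : Nat.Prime 7) hp hq hdy
  have e3 := h3.resolve_left (by norm_num)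
  have e5 := h5.resolve_left (by norm_num)
  have e7 := h7.resolve_left (by norm_num)
  omega

/-- The sign pattern with `x₁ + 1 = x₂ + x₃`: the degrees are `5, 3, 3`. -/
theorem degrees_five_three_three {p q x₁ x₂ x₃ : ℕ} (hp : p.Prime) (hq : q.Prime) (hpq : p ≠ q)
    (h1 : x₁ % 4 = 1) (h2 : x₂ % 4 = 3) (h3 : x₃ % 4 = 3) (hx1 : 5 ≤ x₁)
    (hsum : x₁ + 1 = x₂ + x₃)
    (hpr : ∀ l : ℕ, l.Prime → (l ∣ x₁ ∨ l ∣ x₂ ∨ l ∣ x₃ ∨ l ∣ (x₁ + 1) / 2 ∨ l ∣ (x₂ - 1) / 2 ∨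
      l ∣ (x₃ - 1) / 2) → l = p ∨ l = q) :
    x₁ = 5 ∧ x₂ = 3 ∧ x₃ = 3 := by
  wlog hp1 : p ∣ x₁ generalizing p q with H
  · obtain ⟨l, hl, hld⟩ := Nat.exists_prime_and_dvd (show x₁ ≠ 1 by omega)
    rcases hpr l hl (Or.inl hld) with rfl | rfl
    · exact absurd hld hp1
    · exact H hq hp hpq.symm (fun l hl h => (hpr l hl h).symm) hld
  set A₁ := (x₁ + 1) / 2 with hA1
  have e1 : x₁ + 1 = 2 * A₁ := by omega
  have hnp : ¬ p ∣ A₁ := fun h =>
    hp.not_dvd_one ((Nat.dvd_add_right hp1).1 (e1 ▸ h.mul_left 2))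
  have hqA : q ∣ A₁ := by
    obtain ⟨l, hl, hld⟩ := Nat.exists_prime_and_dvd (show A₁ ≠ 1 by omega)
    rcases hpr l hl (by tauto) with rfl | rfl
    · exact absurd hld hnp
    · exact hld
  have hq1 : ¬ q ∣ x₁ := fun h =>
    hq.not_dvd_one ((Nat.dvd_add_right h).1 (e1 ▸ hqA.mul_left 2))
  have hnot : ∀ x y : ℕ, x + y = x₁ + 1 → p ∣ x → p ∣ y → False := fun x y h hx hy =>
    hp.not_dvd_one ((Nat.dvd_add_right hp1).1 (h ▸ dvd_add hx hy))
  have hiff : ∀ x y : ℕ, x + y = x₁ + 1 → q ∣ x → q ∣ y := fun x y h hx =>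
    (Nat.dvd_add_right hx).1 (by rw [h, e1]; exact hqA.mul_left 2)
  have hq2 : q ∣ x₂ := by
    obtain ⟨l, hl, hld⟩ := Nat.exists_prime_and_dvd (show x₂ ≠ 1 by omega)
    rcases hpr l hl (by tauto) with rfl | rfl
    · obtain ⟨m, hm, hmd⟩ := Nat.exists_prime_and_dvd (show x₃ ≠ 1 by omega)
      rcases hpr m hm (by tauto) with rfl | rfl
      · exact (hnot x₂ x₃ hsum.symm hld hmd).elim
      · exact hiff x₃ x₂ (by omega) hmd
    · exact hld
  have hq3 : q ∣ x₃ := hiff x₂ x₃ hsum.symm hq2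
  have hpowq : ∀ x : ℕ, (x = x₂ ∨ x = x₃) → x % 4 = 3 → q ∣ x → ∀ l : ℕ, l.Prime → l ∣ x → l = q := by
    intro x hx hx4 hqx l hl hlx
    have hmem : l = p ∨ l = q := hpr l hl (by rcases hx with rfl | rfl <;> tauto)
    refine hmem.resolve_left fun hlp => ?_
    subst hlp
    have hA : (x - 1) / 2 = 1 := by
      by_contra hne
      obtain ⟨m, hm, hmd⟩ := Nat.exists_prime_and_dvd hne
      have hmx : ¬ m ∣ x := fun h => hm.not_dvd_one
        ((Nat.dvd_add_right (hmd.mul_left 2)).1 ((show 2 * ((x - 1) / 2) + 1 = x by omega).symm ▸ h))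
      rcases hpr m hm (by rcases hx with rfl | rfl <;> tauto) with rfl | rfl
      · exact hmx hlx
      · exact hmx hqx
    have hx3 : x = 3 := by omega
    rw [hx3] at hlx hqx
    exact hpq (((Nat.prime_dvd_prime_iff_eq hp Nat.prime_three).1 hlx).trans
      ((Nat.prime_dvd_prime_iff_eq hq Nat.prime_three).1 hqx).symm)
  obtain ⟨u, hu⟩ : ∃ u, x₂ = q ^ u := ⟨_, Nat.eq_prime_pow_of_unique_prime_dvd (by omega)
    fun {l} hl hld => hpowq x₂ (Or.inl rfl) h2 hq2 l hl hld⟩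
  obtain ⟨v, hv⟩ : ∃ v, x₃ = q ^ v := ⟨_, Nat.eq_prime_pow_of_unique_prime_dvd (by omega)
    fun {l} hl hld => hpowq x₃ (Or.inr rfl) h3 hq3 l hl hld⟩
  obtain ⟨e, he⟩ : ∃ e, A₁ = q ^ e := ⟨_, Nat.eq_prime_pow_of_unique_prime_dvd (by omega)
    fun {l} hl hld => (hpr l hl (by tauto)).resolve_left fun h => hnp (h ▸ hld)⟩
  have hne : ∀ x y i j : ℕ, x = q ^ i → y = q ^ j → x + y = 2 * A₁ → ¬ x < y := by
    intro x y i j hx hy hxy hlt
    have hij : i < j := (Nat.pow_lt_pow_iff_right hq.one_lt).1 (hx ▸ hy ▸ hlt)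
    have hie : i < e := (Nat.pow_lt_pow_iff_right hq.one_lt).1 (hx ▸ he ▸ (show x < A₁ by omega))
    have hd : q ^ (i + 1) ∣ x :=
      (Nat.dvd_add_left (hy ▸ pow_dvd_pow q hij)).1
        (hxy ▸ (he ▸ pow_dvd_pow q hie : q ^ (i + 1) ∣ A₁).mul_left 2)
    rw [hx, Nat.pow_dvd_pow_iff_le_right hq.one_lt] at hd
    omega
  have heq : x₂ = x₃ := le_antisymm (not_lt.1 (hne x₃ x₂ v u hv hu (by omega)))
    (not_lt.1 (hne x₂ x₃ u v hu hv (by omega)))
  have hA2 : (x₂ - 1) / 2 = 1 := by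
    by_contra hne'
    obtain ⟨l, hl, hld⟩ := Nat.exists_prime_and_dvd hne'
    rcases hpr l hl (by tauto) with rfl | rfl
    · exact hl.not_dvd_one ((Nat.dvd_add_right (hld.mul_left 4)).1
        ((show 4 * ((x₂ - 1) / 2) + 1 = x₁ by omega).symm ▸ hp1))
    · exact hl.not_dvd_one ((Nat.dvd_add_right (hld.mul_left 2)).1
        ((show 2 * ((x₂ - 1) / 2) + 1 = x₂ by omega).symm ▸ hq2))
  omega

/-- Two consecutive degrees prime to 3 dividing `3 * p ^ a * 2 ^ b` are `p` and a power of 2. -/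
theorem consecutive_degrees {p a b n m : ℕ} (hp : p.Prime) (hp5 : 5 ≤ p) (ha : a ≤ 2) (hn : 1 < n)
    (hm : 1 < m) (hnm : n = m + 1 ∨ m = n + 1) (hodd : Odd n) (hn3 : ¬ 3 ∣ n) (hm3 : ¬ 3 ∣ m)
    (hdn : n ∣ 3 * p ^ a * 2 ^ b) (hdm : m ∣ 3 * p ^ a * 2 ^ b) :
    n = p ∧ ∃ k : ℕ, m = 2 ^ k := by
  have h3 : Nat.Coprime n 3 := (Nat.prime_three.coprime_iff_not_dvd.2 hn3).symm
  have h2 : Nat.Coprime n (2 ^ b) := (Nat.coprime_two_right.2 hodd).pow_right b
  have hna : n ∣ p ^ a := h3.dvd_of_dvd_mul_left (h2.dvd_of_dvd_mul_right hdn)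
  obtain ⟨j, hj, rfl⟩ := (Nat.dvd_prime_pow hp).1 hna
  have hj0 : 1 ≤ j := by
    rcases Nat.eq_zero_or_pos j with rfl | h
    · simp at hn
    · exact h
  have hpm : ¬ p ∣ m := fun h => by
    have hpn : p ∣ p ^ j := dvd_pow_self p (by omega)
    rcases hnm with e | e
    · exact hp.not_dvd_one ((Nat.dvd_add_right h).1 (e ▸ hpn))
    · exact hp.not_dvd_one ((Nat.dvd_add_right hpn).1 (e ▸ h))
  have hma : m ∣ 2 ^ b := (Nat.Coprime.dvd_of_dvd_mul_left
    (((Nat.prime_three.coprime_iff_not_dvd.2 hm3).symm).mul_right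
      ((hp.coprime_iff_not_dvd.2 hpm).symm.pow_right a)) hdm)
  obtain ⟨k, -, rfl⟩ := (Nat.dvd_prime_pow Nat.prime_two).1 hma
  have hj2 : j ≠ 2 := by
    rintro rfl
    have hk : 4 ≤ k := by
      by_contra hk
      have : 2 ^ k ≤ 2 ^ 3 := Nat.pow_le_pow_right (by norm_num) (by omega)
      have : 5 ^ 2 ≤ p ^ 2 := Nat.pow_le_pow_left hp5 2
      omega
    rcases hnm with e | e
    · -- `p ^ 2 = 2 ^ k + 1`
      have hmul : (p - 1) * (p + 1) = 2 ^ k := by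
        obtain ⟨r, rfl⟩ : ∃ r, p = r + 1 := ⟨p - 1, by omega⟩
        simp only [Nat.add_sub_cancel]
        ring_nf at e ⊢
        omega
      obtain ⟨i, -, hi⟩ := (Nat.dvd_prime_pow Nat.prime_two).1
        (Dvd.intro (p + 1) hmul : p - 1 ∣ 2 ^ k)
      obtain ⟨l, -, hl⟩ := (Nat.dvd_prime_pow Nat.prime_two).1
        (Dvd.intro_left (p - 1) hmul : p + 1 ∣ 2 ^ k)
      have hi2 : 2 ≤ i := by
        by_contra h
        have : 2 ^ i ≤ 2 ^ 1 := Nat.pow_le_pow_right (by norm_num) (by omega)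
        omega
      have hl2 : 2 ≤ l := by
        by_contra h
        have : 2 ^ l ≤ 2 ^ 1 := Nat.pow_le_pow_right (by norm_num) (by omega)
        omega
      obtain ⟨i', rfl⟩ := Nat.exists_eq_add_of_le hi2
      obtain ⟨l', rfl⟩ := Nat.exists_eq_add_of_le hl2
      rw [pow_add] at hi hl
      omega
    · have h8 : p ^ 2 % 8 = 1 := by
        have hpo : p % 2 = 1 := hp.eq_two_or_odd.resolve_left (by omega)
        rw [Nat.pow_mod]
        have : p % 8 = 1 ∨ p % 8 = 3 ∨ p % 8 = 5 ∨ p % 8 = 7 := by omega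
        rcases this with h | h | h | h <;> rw [h] <;> norm_num
      obtain ⟨k', rfl⟩ := Nat.exists_eq_add_of_le hk
      rw [pow_add] at e
      omega
  obtain rfl : j = 1 := by omega
  exact ⟨pow_one p, k, rfl⟩

theorem three_mul_two_pow_mod_seven (r : ℕ) : 3 * 2 ^ r % 7 ≠ 1 := by
  have h : 2 ^ r % 7 = 1 ∨ 2 ^ r % 7 = 2 ∨ 2 ^ r % 7 = 4 := by
    induction r with
    | zero => simp
    | succ r ih => rw [pow_succ]; omega
  omega

/-- If `p` is within one of a power of two then `3 * 2 ^ r` is not `1` modulo `p` unless `p = 5`. -/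
theorem eq_five_of_residue {p k r : ℕ} {s : ℤ} (hp5 : 5 ≤ p) (hs : s = 1 ∨ s = -1)
    (hk : (2 : ℤ) ^ k = p + s) (h : (p : ℤ) ∣ 3 * 2 ^ r - 1) : p = 5 := by
  by_contra hne
  have hk0 : k ≠ 0 := by
    rintro rfl
    rw [pow_zero] at hk
    omega
  set t := r / k with ht
  set r₀ := r % k with hr₀
  have hr : r = k * t + r₀ := (Nat.div_add_mod r k).symm
  have hlt : r₀ < k := Nat.mod_lt _ (by omega)
  have hdvd : (p : ℤ) ∣ ((2 : ℤ) ^ k) ^ t - s ^ t :=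
    (show (p : ℤ) ∣ (2 : ℤ) ^ k - s from ⟨1, by rw [hk]; ring⟩).trans (sub_dvd_pow_sub_pow _ _ t)
  have hred : (p : ℤ) ∣ 3 * 2 ^ r₀ * s ^ t - 1 := by
    have h2 := dvd_sub h (hdvd.mul_left (3 * 2 ^ r₀))
    have e : 3 * (2 : ℤ) ^ r - 1 - 3 * 2 ^ r₀ * ((2 ^ k) ^ t - s ^ t) =
        3 * 2 ^ r₀ * s ^ t - 1 := by
      rw [hr, pow_add, pow_mul]; ring
    rwa [e] at h2
  obtain ⟨c, hc, hred'⟩ : ∃ c : ℤ, (c = 1 ∨ c = -1) ∧ (p : ℤ) ∣ 3 * 2 ^ r₀ - c := by
    have hst : s ^ t = 1 ∨ s ^ t = -1 := by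
      rcases hs with rfl | rfl
      · exact Or.inl (one_pow t)
      · rcases Nat.even_or_odd t with he | ho
        · exact Or.inl he.neg_one_pow
        · exact Or.inr ho.neg_one_pow
    rcases hst with e | e <;> rw [e] at hred
    · exact ⟨1, Or.inl rfl, by simpa using hred⟩
    · exact ⟨-1, Or.inr rfl, by
        have := hred.neg_right
        ring_nf at this ⊢
        exact this⟩
  have hle : 2 * (2 : ℤ) ^ r₀ ≤ 2 ^ k := by
    rw [← pow_succ']
    exact pow_le_pow_right₀ (by norm_num) hlt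
  have hpos : (1 : ℤ) ≤ 2 ^ r₀ := one_le_pow₀ (by norm_num)
  obtain ⟨m, hm⟩ := hred'
  have hm1 : m = 1 := by
    have h1 : 0 < (p : ℤ) * m := by omega
    have h2 : (p : ℤ) * m < p * 2 := by omega
    have := lt_of_mul_lt_mul_left h2 (by omega)
    have := pos_of_mul_pos_right h1 (by omega)
    omega
  subst hm1
  rcases Nat.lt_or_ge r₀ 2 with h0 | h0
  · interval_cases r₀
    · have hk1 : (4 : ℤ) ≤ 2 ^ k := by omega
      norm_num at hm
      omega
    · norm_num at hm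
      have hp7 : p = 7 := by omega
      subst hp7
      apply three_mul_two_pow_mod_seven r
      have h' : (7 : ℤ) ∣ 3 * 2 ^ r - 1 := by exact_mod_cast h
      zify
      omega
  · obtain ⟨u, hu⟩ := Nat.exists_eq_add_of_le h0
    obtain ⟨w, hw⟩ := Nat.exists_eq_add_of_le hlt
    have e1 : (2 : ℤ) ^ k = 2 ^ r₀ * (2 * 2 ^ w) := by
      rw [hw, Nat.succ_eq_add_one]; ring
    have e3 : (2 : ℤ) ^ k = 4 * (2 ^ u * (2 * 2 ^ w)) := by rw [e1, hu]; ring
    have e2 : (2 : ℤ) ^ r₀ = 4 * 2 ^ u := by rw [hu]; ring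
    have : 3 * (2 : ℤ) ^ r₀ = 2 ^ k := by omega
    rw [e1] at this
    have h3 : (3 : ℤ) = 2 * 2 ^ w := mul_left_cancel₀ (show (2 : ℤ) ^ r₀ ≠ 0 by positivity)
      (by linear_combination this)
    omega

/-- The degree equation for the principal `p`-block when the automiser has order three. -/
theorem degrees_of_index_three {p k b X Y : ℕ} {δ ε : ℤ} (hp5 : 7 ≤ p) (hk : 2 ^ k = p + 1)
    (hX : X ∣ 3 * 2 ^ b) (hY : Y ∣ 3 * 2 ^ b) (hX1 : 1 < X) (hY1 : 1 < Y)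
    (hδ : δ = 1 ∨ δ = -1) (hε : ε = 1 ∨ ε = -1) (hXm : (p : ℤ) ∣ (X : ℤ) - δ)
    (hYm : (p : ℤ) ∣ (Y : ℤ) - 3 * ε) (heq : ε * (Y : ℤ) = 2 + (p : ℤ) + δ * X) :
    p = 7 ∧ X = 6 ∧ Y = 3 ∧ δ = -1 ∧ ε = 1 := by
  have hk0 : k ≠ 0 := by rintro rfl; simp at hk; omega
  obtain ⟨k', rfl⟩ : ∃ k', k = k' + 1 := ⟨k - 1, by omega⟩
  rw [pow_succ] at hk
  have hthree : ∀ n : ℕ, n ∣ 3 * 2 ^ b → Odd n → 1 < n → n = 3 := fun n hn ho h1 =>
    ((Nat.dvd_prime Nat.prime_three).1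
      (((Nat.coprime_two_right.2 ho).pow_right b).dvd_of_dvd_mul_right hn)).resolve_left (by omega)
  have hY3 : Y = 3 := by
    rcases Nat.even_or_odd Y with he | ho
    · exfalso
      have hoX : Odd X := by
        rw [Nat.odd_iff]
        obtain ⟨c, rfl⟩ := he
        rcases hδ with rfl | rfl <;> rcases hε with rfl | rfl <;> omega
      have hX3 := hthree X hX hoX hX1
      subst hX3
      rcases hδ with rfl | rfl
      · have := Int.le_of_dvd (by norm_num) hXm; omega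
      · have := Int.le_of_dvd (by norm_num) hXm; omega
    · exact hthree Y hY ho hY1
  subst hY3
  obtain rfl : ε = 1 := by
    rcases hε with rfl | rfl
    · rfl
    · have := Int.le_of_dvd (by norm_num) hYm; omega
  obtain rfl : δ = -1 := hδ.resolve_left (by rintro rfl; omega)
  have hXp : X + 1 = p := by omega
  obtain ⟨w, hw⟩ : ∃ w, X = 2 * w := ⟨2 ^ k' - 1, by omega⟩
  have hwodd : Odd w := by
    obtain ⟨k'', rfl⟩ : ∃ k'', k' = k'' + 1 := ⟨k' - 1, by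
      have : k' ≠ 0 := by rintro rfl; simp at hk; omega
      omega⟩
    rw [pow_succ] at hk
    exact ⟨2 ^ k'' - 1, by omega⟩
  have := hthree w ((dvd_mul_left w 2).trans (hw ▸ hX)) hwodd (by omega)
  omega

end Cfsg.Agent.Lib.H66.SmallCofactor
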