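import Mathlib
import Cfsg.Agent.Lib.Chars.Integral
import Cfsg.Agent.Lib.Chars.Induced
import Cfsg.Agent.Lib.Chars.Ops
import Cfsg.Agent.Lib.Chars.PResidualDegree
import Cfsg.Agent.Lib.SmallGroups.Basic
import Cfsg.Agent.Lib.CharCount.Basic
import Cfsg.Agent.Lib.KGV.Knorr
import Cfsg.Agent.Lib.DefectOne.Family
import Cfsg.Agent.Lib.BrauerSuzukiQ.Values

/-!
# Rational character values in a simple group

Elementary restrictions on integer character values: congruences at prime power elements,
sums over subgroups and determinants.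
-/

set_option autoImplicit false

namespace Cfsg.Agent.Lib.H66.SmallCofactor

open Cfsg Cfsg.Agent.Lib
open scoped ComplexConjugate

universe u

variable {G : Type u} [Group G]

/-- An algebraic integer fixed by all automorphisms of `ℂ` is an integer. -/
theorem exists_int_of_fixed {x : ℂ} (hx : IsIntegral ℤ x) (h : ∀ σ : ℂ ≃+* ℂ, σ x = x) :
    ∃ z : ℤ, x = z := by
  obtain ⟨r, hr⟩ := DefectOne.exists_rat_of_fixed (hx.tower_top (A := ℚ)).isAlgebraic h
  exact Chars.exists_int_eq_of_isIntegral hx r hr.symm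

variable [Finite G]

theorem degree_eq (χ : IrrCharacter G) :
    (χ : G → ℂ) 1 = (charDegree (χ : G → ℂ) : ℂ) :=
  (Chars.charDegree_spec χ).2

theorem degree_dvd_card (χ : IrrCharacter G) :
    charDegree (χ : G → ℂ) ∣ Nat.card G := by
  obtain ⟨n, -, h, hd⟩ := Chars.irr_degree_dvd_card χ
  have : charDegree (χ : G → ℂ) = n := by exact_mod_cast (degree_eq χ).symm.trans h
  rwa [this]

theorem one_lt_degree [IsSimpleGroup G] (hna : ¬ IsMulCommutative G) (χ : IrrCharacter G)
    (hne : (χ : G → ℂ) ≠ fun _ => 1) : 1 < charDegree (χ : G → ℂ) := by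
  refine lt_of_le_of_ne (Chars.charDegree_spec χ).1 fun h => ?_
  exact hne (BrauerSuzukiQ.eq_one_of_degree_one hna χ (by rw [degree_eq, ← h, Nat.cast_one]))

theorem charDegree_galIrr (σ : ℂ →+* ℂ) (χ : IrrCharacter G) :
    charDegree (GaloisChar.galIrr σ χ : G → ℂ) = charDegree (χ : G → ℂ) := by
  have h := degree_eq (GaloisChar.galIrr σ χ)
  rw [GaloisChar.galIrr_apply, degree_eq χ, map_natCast] at h
  exact_mod_cast h.symm

/-- In a simple group a non-principal irreducible character has maximal absolute value only at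
the identity. -/
theorem norm_lt_degree [IsSimpleGroup G] (hna : ¬ IsMulCommutative G) (χ : IrrCharacter G)
    (hne : (χ : G → ℂ) ≠ fun _ => 1) {g : G} (hg : g ≠ 1) :
    ‖(χ : G → ℂ) g‖ < (charDegree (χ : G → ℂ) : ℝ) := by
  obtain ⟨n, ρ, hρ, hc⟩ := χ.2
  haveI := hρ
  have hdeg : charDegree (χ : G → ℂ) = Module.finrank ℂ (Fin n → ℂ) := by
    have := degree_eq χ
    rw [← hc, Representation.char_one] at this
    rw [← hc]
    exact_mod_cast this.symm
  rw [hdeg, ← hc]
  refine lt_of_le_of_ne (Chars.norm_char_le ρ g) fun h => ?_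
  obtain ⟨ω, hω⟩ := (Chars.norm_char_eq_iff ρ g).1 h
  rcases (inferInstance : ρ.ker.Normal).eq_bot_or_eq_top with hk | hk
  · apply hg
    have hcen : g ∈ Subgroup.center G := by
      rw [Subgroup.mem_center_iff]
      intro a
      have hinj : Function.Injective ρ := (MonoidHom.ker_eq_bot_iff _).1 hk
      refine hinj ?_
      rw [map_mul, map_mul, hω]
      ext v
      simp
    rw [SmallGroups.center_eq_bot hna] at hcen
    exact Subgroup.mem_bot.1 hcen
  · apply hne
    have hone : (χ : G → ℂ) = fun _ => (n : ℂ) := by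
      funext a
      have ha : ρ a = 1 := MonoidHom.mem_ker.1 (hk ▸ Subgroup.mem_top a)
      rw [← hc, Representation.character, ha, LinearMap.trace_one]
      simp
    obtain ⟨_⟩ := nonempty_fintype G
    have h1 := Chars.classInner_irr_self χ
    rw [hone] at h1
    simp only [classInner, Complex.conj_natCast, Finset.sum_const, Finset.card_univ,
      nsmul_eq_mul] at h1
    rw [← Nat.card_eq_fintype_card, ← mul_assoc,
      inv_mul_cancel₀ (Nat.cast_ne_zero.2 Nat.card_pos.ne'), one_mul] at h1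
    have : n = 1 := Nat.eq_one_of_mul_eq_one_right (m := n) (n := n) (by exact_mod_cast h1)
    rw [hone, this, Nat.cast_one]

theorem abs_lt_degree [IsSimpleGroup G] (hna : ¬ IsMulCommutative G) (χ : IrrCharacter G)
    (hne : (χ : G → ℂ) ≠ fun _ => 1) {g : G} (hg : g ≠ 1) {z : ℤ}
    (hz : (χ : G → ℂ) g = z) :
    -(charDegree (χ : G → ℂ) : ℤ) < z ∧ z < (charDegree (χ : G → ℂ) : ℤ) := by
  have h := norm_lt_degree hna χ hne hg
  rw [hz, Complex.norm_intCast] at h
  rw [← abs_lt]
  exact_mod_cast h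

/-- Integer values at elements of `r`-power order are congruent to the degree modulo `r`. -/
theorem dvd_sub_degree {r : ℕ} (hr : r.Prime) {φ : G → ℂ} (hφ : IsCharacter G φ) {v : G} {k : ℕ}
    (hv : v ^ r ^ k = 1) {z d : ℤ} (hz : φ v = z) (hd : φ 1 = d) : (r : ℤ) ∣ z - d := by
  obtain ⟨M, hM⟩ := CharCount.exists_isPModular r hr
  haveI := Blocks.isPModular_isPrime hM
  have h := KGV.memLocalIdeal_char_sub_degree hM hφ hv
  rw [hz, hd, ← Int.cast_sub] at h
  exact (Blocks.memLocalIdeal_intCast_iff hM _).1 h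

theorem dvd_sub_charDegree {r : ℕ} (hr : r.Prime) (χ : IrrCharacter G) {v : G} {k : ℕ}
    (hv : v ^ r ^ k = 1) {z : ℤ} (hz : (χ : G → ℂ) v = z) :
    (r : ℤ) ∣ z - (charDegree (χ : G → ℂ) : ℤ) :=
  dvd_sub_degree hr (Chars.irr_isCharacter χ) hv hz (by rw [degree_eq, Int.cast_natCast])

omit [Finite G] in
/-- The sum of the values of a character pulled back to a finite group is a non-negative multiple
of its order. -/
theorem exists_nat_sum_hom {H : Type*} [Group H] [Fintype H] (f : H →* G) {φ : G → ℂ}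
    (hφ : IsCharacter G φ) (v : H → ℤ) (hv : ∀ h, φ (f h) = v h) :
    ∃ k : ℕ, ∑ h, v h = (Nat.card H : ℤ) * k := by
  obtain ⟨n, ρ, rfl⟩ := hφ
  have hres : IsCharacter H (fun h => ρ.character (f h)) := ⟨n, ρ.comp f, rfl⟩
  obtain ⟨k, hk⟩ := Chars.isCharacter_classInner_nat hres
    (Chars.irr_isCharacter (Chars.trivialIrr H))
  refine ⟨k, ?_⟩
  simp only [classInner, Chars.trivialIrr_apply, map_one, mul_one, hv] at hk
  rw [inv_mul_eq_iff_eq_mul₀ (Nat.cast_ne_zero.2 Nat.card_pos.ne')] at hk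
  exact_mod_cast hk

omit [Finite G] in
/-- A character with constant value `z` off the identity of a finite subgroup. -/
theorem exists_nat_of_const (H : Subgroup G) [Finite H] {φ : G → ℂ} (hφ : IsCharacter G φ)
    {d z : ℤ} (hd : φ 1 = d) (hz : ∀ h ∈ H, h ≠ 1 → φ h = z) :
    ∃ k : ℕ, d + ((Nat.card H : ℤ) - 1) * z = (Nat.card H : ℤ) * k := by
  classical
  haveI := Fintype.ofFinite H
  obtain ⟨k, hk⟩ := exists_nat_sum_hom H.subtype hφ (fun h => if h = 1 then d else z) fun h => by
    split_ifs with h1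
    · rw [h1, map_one, hd]
    · exact hz h h.2 fun e => h1 (Subtype.ext e)
  refine ⟨k, ?_⟩
  rw [← hk, ← Finset.add_sum_erase _ _ (Finset.mem_univ (1 : H)), if_pos rfl,
    Finset.sum_congr rfl fun h hh => if_neg (Finset.ne_of_mem_erase hh), Finset.sum_const,
    Finset.card_erase_of_mem (Finset.mem_univ _), Finset.card_univ, nsmul_eq_mul,
    Nat.card_eq_fintype_card, Nat.cast_sub Fintype.card_pos, Nat.cast_one]

omit [Finite G] in
theorem card_dvd_of_const (H : Subgroup G) [Finite H] {φ : G → ℂ} (hφ : IsCharacter G φ)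
    {d z : ℤ} (hd : φ 1 = d) (hz : ∀ h ∈ H, h ≠ 1 → φ h = z) :
    (Nat.card H : ℤ) ∣ d - z := by
  obtain ⟨k, hk⟩ := exists_nat_of_const H hφ hd hz
  exact ⟨k - z, by linear_combination hk⟩

theorem pow_card_sylow {r : ℕ} [Fact r.Prime] (R : Sylow r G) {g : G}
    (hg : g ∈ (R : Subgroup G)) : ∃ k : ℕ, g ^ r ^ k = 1 := by
  obtain ⟨k, hk⟩ := R.isPGroup' ⟨g, hg⟩
  exact ⟨k, congrArg Subtype.val hk⟩

/-- In a simple group the value at an involution is congruent to the degree modulo four. -/
theorem four_dvd_degree_sub [IsSimpleGroup G] (hna : ¬ IsMulCommutative G) (χ : IrrCharacter G)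
    {v : G} (hv : orderOf v = 2) {z : ℤ} (hz : (χ : G → ℂ) v = z) :
    (4 : ℤ) ∣ (charDegree (χ : G → ℂ) : ℤ) - z := by
  classical
  obtain ⟨n, ρ, hρ, hc⟩ := χ.2
  obtain ⟨ι, _, b, μ, hm, hb⟩ := Chars.exists_eigenbasis ρ v
  let D : G →* ℂˣ := ((LinearMap.det).comp ρ).toHomUnits
  have hdet : LinearMap.det (ρ v) = 1 :=
    congrArg Units.val (SmallGroups.hom_commGroup_eq_one hna D v)
  have hmat : LinearMap.toMatrix b b (ρ v) = Matrix.diagonal μ := by
    ext i j
    rw [LinearMap.toMatrix_apply, hb j, map_smul, b.repr_self, Finsupp.smul_single, smul_eq_mul,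
      mul_one, Matrix.diagonal_apply, Finsupp.single_apply]
    by_cases h : i = j
    · subst h; simp
    · simp [h, Ne.symm h]
  rw [← LinearMap.det_toMatrix b, hmat, Matrix.det_diagonal] at hdet
  let s : ι → ℤ := fun i => if μ i = 1 then 1 else -1
  have hs : ∀ i, μ i = (s i : ℂ) := by
    intro i
    by_cases h : μ i = 1
    · simp [s, h]
    · have := hm i
      rw [hv, sq_eq_one_iff] at this
      simp [s, this.resolve_left h, h]
  have hsum : (∑ i, s i : ℤ) = z := by
    have h := Chars.trace_eq_sum_of_eigenbasis (ρ v) b μ hb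
    have h' : (χ : G → ℂ) v = ∑ i, μ i := by rw [← hc]; exact h
    rw [hz] at h'
    simp only [hs] at h'
    exact_mod_cast h'.symm
  have hprod : (∏ i, s i : ℤ) = 1 := by
    simp only [hs] at hdet
    exact_mod_cast hdet
  have hdeg : (charDegree (χ : G → ℂ) : ℤ) = ∑ _i : ι, (1 : ℤ) := by
    have := degree_eq χ
    rw [← hc, Representation.char_one, Module.finrank_eq_card_basis b] at this
    rw [← hc, Finset.sum_const, Finset.card_univ, nsmul_eq_mul, mul_one]
    exact_mod_cast this.symm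
  have key : ∀ S : Finset ι, (4 : ℤ) ∣ (∑ i ∈ S, (1 - s i)) + ((∏ i ∈ S, s i) - 1) ∧
      ((∏ i ∈ S, s i) = 1 ∨ (∏ i ∈ S, s i) = -1) := by
    intro S
    induction S using Finset.induction_on with
    | empty => simp
    | @insert a S ha ih =>
      rw [Finset.sum_insert ha, Finset.prod_insert ha]
      have hsa : s a = 1 ∨ s a = -1 := by by_cases h : μ a = 1 <;> simp [s, h]
      obtain ⟨⟨c, hc4⟩, ih2⟩ := ih
      rcases hsa with h | h <;> rcases ih2 with h' | h' <;> rw [h, h'] <;> rw [h'] at hc4 <;>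
        refine ⟨?_, by norm_num⟩
      · exact ⟨c, by linear_combination hc4⟩
      · exact ⟨c, by linear_combination hc4⟩
      · exact ⟨c, by linear_combination hc4⟩
      · exact ⟨c + 1, by linear_combination hc4⟩
  have h4 := (key Finset.univ).1
  rw [hprod, sub_self, add_zero, Finset.sum_sub_distrib, hsum, ← hdeg] at h4
  exact h4

end Cfsg.Agent.Lib.H66.SmallCofactor
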