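import Cfsg.Agent.Lib.H66.SmallCofactor.Basic

/-!
# Restriction of a character to a dihedral subgroup of order `2 p`
-/

set_option autoImplicit false

namespace Cfsg.Agent.Lib.H66.SmallCofactor

open Cfsg Cfsg.Agent.Lib

universe u

variable {G : Type u} [Group G] [Finite G]

/-- A character of degree `p` vanishing on the non-identity powers of `u` takes a value in
`[-1, 1]` at an element inverting `u`. -/
theorem abs_le_one_of_inverting {p : ℕ} (hp : p.Prime) (hp2 : p ≠ 2) {u v : G} (hu : orderOf u = p)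
    (hv : v * v = 1) (hinv : v * u * v⁻¹ = u⁻¹) {φ : G → ℂ} (hφ : IsCharacter G φ)
    (hd : φ 1 = (p : ℂ)) (h0 : ∀ g ∈ Subgroup.zpowers u, g ≠ 1 → φ g = 0) {z : ℤ}
    (hz : φ v = z) : -1 ≤ z ∧ z ≤ 1 := by
  classical
  haveI : Fact p.Prime := ⟨hp⟩
  let e : ZMod p → G := fun i => u ^ i.val
  have eadd : ∀ i j, e (i + j) = e i * e j := fun i j => by
    show u ^ (i + j).val = u ^ i.val * u ^ j.val
    rw [← pow_add, ZMod.val_add]
    conv_rhs => rw [← pow_mod_orderOf, hu]
  have e0 : e 0 = 1 := by simp [e]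
  have eneg : ∀ i, e (-i) = (e i)⁻¹ := fun i =>
    eq_inv_of_mul_eq_one_left (by rw [← eadd, neg_add_cancel, e0])
  have hcv : ∀ i, v * e i = e (-i) * v := fun i => by
    have h := conj_pow (a := v) (b := u) (i := i.val)
    rw [hinv, inv_pow] at h
    rw [eneg]
    show v * u ^ i.val = (u ^ i.val)⁻¹ * v
    rw [h]
    group
  have hve : ∀ i, e i * v = v * e (-i) := fun i => by rw [hcv, neg_neg]
  let f : DihedralGroup p →* G := MonoidHom.mk'
    (fun d => match d with
      | .r i => e i
      | .sr i => v * e i)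
    (by
      rintro (i | i) (j | j)
      · exact eadd i j
      · show v * e (j - i) = e i * (v * e j)
        rw [← mul_assoc, hve, mul_assoc, ← eadd, neg_add_eq_sub]
      · show v * e (i + j) = v * e i * e j
        rw [mul_assoc, ← eadd]
      · show e (j - i) = v * e i * (v * e j)
        rw [mul_assoc v, ← mul_assoc (e i), hve, mul_assoc v (e (-i)), ← mul_assoc v v, hv, one_mul,
          ← eadd, neg_add_eq_sub])
  let sg : DihedralGroup p →* ℂˣ := MonoidHom.mk'
    (fun d => match d with
      | .r _ => 1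
      | .sr _ => -1)
    (by rintro (i | i) (j | j) <;> simp)
  have hr : ∀ i, φ (f (.r i)) = ((if i = 0 then (p : ℤ) else 0 : ℤ) : ℂ) := by
    intro i
    show φ (e i) = _
    split_ifs with h
    · rw [h, e0, hd]; simp
    · rw [Int.cast_zero]
      refine h0 _ (Subgroup.pow_mem _ (Subgroup.mem_zpowers u) _) fun h1 => h ?_
      have := orderOf_dvd_of_pow_eq_one h1
      rw [hu] at this
      exact (ZMod.val_eq_zero i).1 (Nat.eq_zero_of_dvd_of_lt this i.val_lt)
  have hs : ∀ i, φ (f (.sr i)) = (z : ℂ) := by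
    intro i
    have h2 : (2 : ZMod p) ≠ 0 := by
      intro h
      have h' : ((2 : ℕ) : ZMod p) = 0 := by exact_mod_cast h
      rw [ZMod.natCast_eq_zero_iff] at h'
      exact hp2 ((Nat.prime_dvd_prime_iff_eq hp Nat.prime_two).1 h')
    obtain ⟨j, hj⟩ : ∃ j : ZMod p, i = -(j + j) := ⟨-i / 2, by field_simp; ring⟩
    show φ (v * e i) = _
    have he : v * e i = e j * v * (e j)⁻¹ := by
      rw [hve, ← eneg, mul_assoc, ← eadd, hj, neg_add]
    rw [he, Chars.isClassFunction_of_isCharacter hφ v (e j), hz]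
  let w : DihedralGroup p → ℤ := fun d => match d with
    | .r i => if i = 0 then (p : ℤ) else 0
    | .sr _ => z
  let w' : DihedralGroup p → ℤ := fun d => match d with
    | .r i => if i = 0 then (p : ℤ) else 0
    | .sr _ => -z
  obtain ⟨k, hk⟩ := exists_nat_sum_hom f hφ w fun d => by
    rcases d with i | i
    exacts [hr i, hs i]
  have hφ' : IsCharacter (DihedralGroup p) ((fun d => φ (f d)) * fun d => (sg d : ℂ)) := by
    refine Chars.isCharacter_mul ?_ (Chars.isCharacter_hom sg)
    obtain ⟨n, ρ, rfl⟩ := hφ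
    exact ⟨n, ρ.comp f, rfl⟩
  obtain ⟨l, hl⟩ := exists_nat_sum_hom (MonoidHom.id _) hφ' w' fun d => by
    rcases d with i | i
    · show φ (f (.r i)) * ((1 : ℂˣ) : ℂ) = _
      rw [hr, Units.val_one, mul_one]
    · show φ (f (.sr i)) * ((-1 : ℂˣ) : ℂ) = _
      rw [hs, Units.val_neg, Units.val_one, mul_neg, mul_one, ← Int.cast_neg]
  have hcard : Nat.card (DihedralGroup p) = 2 * p := DihedralGroup.nat_card
  rw [hcard, ← DihedralGroup.equivSum.symm.sum_comp, Fintype.sum_sum_type] at hk hl
  simp only [DihedralGroup.equivSum_symm_apply, w, w', Finset.sum_ite_eq', Finset.mem_univ, if_true,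
    Finset.sum_const, Finset.card_univ, ZMod.card, nsmul_eq_mul] at hk hl
  push_cast at hk hl
  have hpos : (0 : ℤ) < p := by exact_mod_cast hp.pos
  constructor <;> nlinarith [Int.natCast_nonneg k, Int.natCast_nonneg l]

end Cfsg.Agent.Lib.H66.SmallCofactor
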