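import Cfsg.Agent.Lib.H66.SmallCofactor.Basic
import Cfsg.Agent.Lib.H66.SmallCofactor.Arith
import Cfsg.Agent.Lib.KleinOrder.Four
import Cfsg.Agent.S0948
import Cfsg.Agent.S4480
import Cfsg.Agent.S4483

/-!
# Simple groups of order four times two odd prime powers
-/

set_option autoImplicit false

namespace Cfsg.Agent.Lib.H66.SmallCofactor

open Cfsg Cfsg.Agent.Lib
open scoped ComplexConjugate

universe u

variable {G : Type u} [Group G] [Finite G]

/-- The four degrees of the principal 2-block, when there are only two odd primes. -/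
theorem exists_block_five_three_three [IsSimpleGroup G] (hna : ¬ IsMulCommutative G)
    {p q a b : ℕ} (hp : p.Prime) (hq : q.Prime) (hpq : p ≠ q) (hp2 : p ≠ 2) (hq2 : q ≠ 2)
    (ha : 1 ≤ a) (hG : Nat.card G = 4 * p ^ a * q ^ b) :
    ∃ ζ₂ ζ₃ ζ₄ : IrrCharacter G,
      (∀ σ : ℂ ≃+* ℂ, GaloisChar.galIrr (σ : ℂ →+* ℂ) ζ₂ = ζ₂ ∧
        ((GaloisChar.galIrr (σ : ℂ →+* ℂ) ζ₃ = ζ₃ ∧ GaloisChar.galIrr (σ : ℂ →+* ℂ) ζ₄ = ζ₄) ∨
        (GaloisChar.galIrr (σ : ℂ →+* ℂ) ζ₃ = ζ₄ ∧ GaloisChar.galIrr (σ : ℂ →+* ℂ) ζ₄ = ζ₃))) ∧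
      charDegree (ζ₂ : G → ℂ) = 5 ∧ charDegree (ζ₃ : G → ℂ) = 3 ∧ charDegree (ζ₄ : G → ℂ) = 3 ∧
      (∀ g : G, ((ζ₃ : G → ℂ) g).im = 0 ∧ ((ζ₄ : G → ℂ) g).im = 0) ∧
      ∀ y : G, Odd (orderOf y) → (ζ₃ : G → ℂ) y + (ζ₄ : G → ℂ) y = 1 + (ζ₂ : G → ℂ) y := by
  classical
  haveI : Fact (Nat.Prime 2) := ⟨Nat.prime_two⟩
  cases nonempty_fintype G
  have hodd : Odd (p ^ a * q ^ b) := ((hp.odd_of_ne_two hp2).pow).mul ((hq.odd_of_ne_two hq2).pow)
  have hG' : Nat.card G = 4 * (p ^ a * q ^ b) := by rw [hG, mul_assoc]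
  have hg1 : 1 < p ^ a * q ^ b :=
    lt_of_lt_of_le (Nat.one_lt_pow (by omega) hp.one_lt) (Nat.le_mul_of_pos_right _ (pow_pos hq.pos b))
  have hnc : ¬ ∃ N : Subgroup G, N.Normal ∧ Nat.card N = p ^ a * q ^ b := by
    rintro ⟨N, hN, hc⟩
    rcases hN.eq_bot_or_eq_top with h | h
    · rw [h, Subgroup.card_bot] at hc; omega
    · rw [h, Subgroup.card_top, hG'] at hc; omega
  obtain ⟨P⟩ : Nonempty (Sylow 2 G) := inferInstance
  obtain ⟨hP, hone⟩ := KleinOrder.isKlein_of_no_complement hodd hG' hnc P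
  obtain ⟨J, hJ, hJ1⟩ : ∃ J ∈ (P : Subgroup G), J ≠ 1 := by
    by_contra h
    push Not at h
    have h4 := hP.card_four
    rw [(Subgroup.eq_bot_iff_forall _).2 h, Subgroup.card_bot] at h4
    omega
  have hJ2 : orderOf J = 2 := orderOf_eq_prime (by
    have := Monoid.pow_exponent_eq_one (⟨J, hJ⟩ : (P : Subgroup G))
    rw [hP.exponent_two] at this
    exact congrArg Subtype.val this) hJ1
  obtain ⟨M, hM⟩ := CharCount.exists_isPModular 2 Nat.prime_two
  haveI := Blocks.isPModular_isPrime hM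
  obtain ⟨ζ₂, ζ₃, ζ₄, ε, hε, n2, n3, n23, n24, n34, hB, hval, d2, d3, d4, hrel⟩ :=
    Cfsg.Agent.S0948.result M hM P hP hone
  have n4 : (ζ₄ : G → ℂ) ≠ fun _ => 1 := fun h => by
    have := (hval J hJ2).2.2
    rw [h] at this
    norm_num at this
  have hF : KleinOrder.FourBlock M ζ₂ ζ₃ ζ₄ := ⟨hB, n2, n3, n4, n23, n24, n34⟩
  have hv : (ζ₂ : G → ℂ) J = ((1 : ℤ) : ℂ) ∧ (ζ₃ : G → ℂ) J = (ε : ℂ) ∧
      (ζ₄ : G → ℂ) J = ((-1 : ℤ) : ℂ) :=
    ⟨by simpa using (hval J hJ2).1, (hval J hJ2).2.1, by simpa using (hval J hJ2).2.2⟩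
  have hsum := KleinOrder.degree_sum P hP hJ hJ2 hM hF hv
  have g1 := one_lt_degree hna ζ₂ n2
  have g2 := one_lt_degree hna ζ₃ n3
  have g3 := one_lt_degree hna ζ₄ n4
  have hdvd : ∀ χ : IrrCharacter G, charDegree (χ : G → ℂ) ∣ 4 * p ^ a * q ^ b := fun χ =>
    hG ▸ degree_dvd_card χ
  set x₁ := charDegree (ζ₂ : G → ℂ) with hx₁
  set x₂ := charDegree (ζ₃ : G → ℂ) with hx₂
  set x₃ := charDegree (ζ₄ : G → ℂ) with hx₃
  obtain rfl | rfl := hε
  · -- the degree of the last character would need three prime divisors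
    exfalso
    obtain ⟨m, -, hm⟩ := Cfsg.Agent.S4480.result M hM (p ^ a * q ^ b) hodd hG' hnc P J hJ hJ2
      ζ₂ ζ₃ ζ₄ 1 1 (-1) hB ⟨n2, n3, n4, n23, n24, n34⟩
      ⟨Or.inl rfl, Or.inl rfl, Or.inr rfl⟩ hv (by norm_num) rfl
    rw [← hx₃] at hm
    obtain ⟨r, hr⟩ : ∃ r, x₃ + 1 = 4 * r := ⟨(x₃ + 1) / 4, by omega⟩
    obtain ⟨y, hy⟩ : ∃ y, x₃ = 2 * y + 1 := ⟨(x₃ - 1) / 2, by omega⟩
    have hcube : x₃ ^ 3 - x₃ = 8 * (x₃ * y * r) := by
      have e : x₃ ^ 3 = 8 * (x₃ * y * r) + x₃ := by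
        zify at hr hy ⊢
        linear_combination ((x₃ : ℤ) * (x₃ + 1)) * hy + 2 * (x₃ : ℤ) * y * hr
      omega
    have hG8 : Nat.card G =
        m ^ 3 * Nat.card (Subgroup.centralizer ((P : Subgroup G) : Set G)) * (x₃ * y * r) := by
      rw [hcube] at hm
      linarith
    refine not_three_coprime_factors (a := a) (b := b) hp hq hp2 hq2 hr hy (by omega) (hdvd ζ₄) ?_ ?_
    · exact hG ▸ hG8 ▸ ((dvd_mul_left y x₃).mul_right r).mul_left _
    · exact hG ▸ hG8 ▸ (dvd_mul_left r (x₃ * y)).mul_left _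
  · have hcube := KleinOrder.order_cube P hP hone hJ hJ2 hM hF hv
      ⟨Or.inl rfl, Or.inr rfl, Or.inr rfl⟩
    rw [← hx₁, ← hx₂, ← hx₃] at hcube
    set c := Nat.card (Subgroup.centralizer ({J} : Set G)) with hc
    set cP := Nat.card (Subgroup.centralizer ((P : Subgroup G) : Set G))
    have hcube' : Nat.card G * cP ^ 2 * ((x₁ + 1) * (x₂ - 1) * (x₃ - 1)) =
        8 * (x₁ * x₂ * x₃) * c ^ 3 := by
      apply Nat.cast_injective (R := ℚ)
      push_cast [Nat.cast_sub g2.le, Nat.cast_sub g3.le] at hcube ⊢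
      linear_combination hcube
    have hcdvd : c ∣ 4 * p ^ a * q ^ b := hG ▸ (Subgroup.card_subgroup_dvd_card _)
    have hxA : x₁ = 5 ∧ x₂ = 3 ∧ x₃ = 3 := by
      refine degrees_five_three_three hp hq hpq (by omega) (by omega) (by omega) (by omega)
        (by omega) fun l hl hdiv => ?_
      have key : l ≠ 2 → l ∣ 4 * p ^ a * q ^ b → l = p ∨ l = q := fun hl2 h =>
        (prime_dvd_cases hl hp hq h).resolve_left fun h4 => hl2
          ((Nat.prime_dvd_prime_iff_eq hl Nat.prime_two).1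
            (hl.dvd_of_dvd_pow (show l ∣ 2 ^ 2 from h4)))
      have hodd' : ∀ n : ℕ, Odd n → l ∣ n → l ≠ 2 := fun n hn hln h =>
        (Nat.not_even_iff_odd.2 hn) (even_iff_two_dvd.2 (h ▸ hln))
      have hA : ∀ n : ℕ, Odd n → l ∣ n → n ∣ (x₁ + 1) * (x₂ - 1) * (x₃ - 1) →
          l = p ∨ l = q := by
        intro n hn hln hnd
        have h2 := hodd' n hn hln
        have h : l ∣ 8 * (x₁ * x₂ * x₃) * c ^ 3 := by
          rw [← hcube']
          exact (hln.trans hnd).mul_left _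
        refine key h2 ?_
        rcases hl.dvd_mul.1 h with h | h
        · rcases hl.dvd_mul.1 h with h | h
          · exact absurd ((Nat.prime_dvd_prime_iff_eq hl Nat.prime_two).1
              (hl.dvd_of_dvd_pow (show l ∣ 2 ^ 3 from h))) h2
          · rcases hl.dvd_mul.1 h with h | h
            · rcases hl.dvd_mul.1 h with h | h
              · exact h.trans (hdvd ζ₂)
              · exact h.trans (hdvd ζ₃)
            · exact h.trans (hdvd ζ₄)
        · exact (hl.dvd_of_dvd_pow h).trans hcdvd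
      rcases hdiv with h | h | h | h | h | h
      · exact key (hodd' x₁ (Nat.odd_iff.2 (by omega)) h) (h.trans (hdvd ζ₂))
      · exact key (hodd' x₂ (Nat.odd_iff.2 (by omega)) h) (h.trans (hdvd ζ₃))
      · exact key (hodd' x₃ (Nat.odd_iff.2 (by omega)) h) (h.trans (hdvd ζ₄))
      · exact hA _ (Nat.odd_iff.2 (by omega)) h
          (((Nat.div_dvd_of_dvd (by omega)).mul_right _).mul_right _)
      · exact hA _ (Nat.odd_iff.2 (by omega)) h
          (((Nat.div_dvd_of_dvd (by omega)).mul_left _).mul_right _)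
      · exact hA _ (Nat.odd_iff.2 (by omega)) h ((Nat.div_dvd_of_dvd (by omega)).mul_left _)
    obtain ⟨h5, h3, h3'⟩ := hxA
    -- all three characters are real
    have hdegconj : ∀ χ : IrrCharacter G, charDegree (Chars.irrConj χ : G → ℂ) =
        charDegree (χ : G → ℂ) := fun χ => by
      have e := (KleinOrder.degree_spec (Chars.irrConj χ)).1
      rw [Chars.irrConj_apply, (KleinOrder.degree_spec χ).1, Complex.conj_natCast] at e
      exact_mod_cast e.symm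
    have hsel : ∀ χ : IrrCharacter G, χ ∈ principalBlock M G → charDegree (χ : G → ℂ) ≠ 1 →
        χ = ζ₂ ∧ charDegree (χ : G → ℂ) = 5 ∨ χ = ζ₃ ∧ charDegree (χ : G → ℂ) = 3 ∨
          χ = ζ₄ ∧ charDegree (χ : G → ℂ) = 3 := by
      intro χ hχ hd1
      rw [hB] at hχ
      rcases hχ with h | h | h | h
      · exact absurd (by rw [h, charDegree]; simp) hd1
      · exact Or.inl ⟨h, by rw [h]; exact h5⟩
      · exact Or.inr (Or.inl ⟨h, by rw [h]; exact h3⟩)
      · exact Or.inr (Or.inr ⟨h, by rw [h]; exact h3'⟩)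
    have hr2 : Chars.irrConj ζ₂ = ζ₂ := by
      have h := hsel _ (KleinOrder.irrConj_mem_principalBlock
        (show ζ₂ ∈ principalBlock M G by rw [hB]; exact Or.inr (Or.inl rfl)))
        (by rw [hdegconj]; omega)
      rw [hdegconj] at h
      rcases h with ⟨h, -⟩ | ⟨-, h⟩ | ⟨-, h⟩
      · exact h
      · omega
      · omega
    have hind := KleinOrder.indicator_sum P hP hJ hJ2 hM hF hv
    have hν : ∀ χ : IrrCharacter G, Odd (charDegree (χ : G → ℂ)) →
        (Chars.indicator (χ : G → ℂ) = 1 ∧ Chars.irrConj χ = χ) ∨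
          (Chars.indicator (χ : G → ℂ) = 0 ∧ Chars.irrConj χ ≠ χ) := by
      intro χ hχ
      have hne := KleinOrder.indicator_ne_neg_one_of_odd χ hχ
      obtain ⟨n, ρ, hρ, hcρ⟩ := χ.2
      haveI := hρ
      obtain ⟨htri, h0⟩ := Chars.indicator_trichotomy ρ
      rw [hcρ] at htri h0
      rcases htri with h | h | h
      · refine Or.inr ⟨h, fun heq => ?_⟩
        obtain ⟨s, hs⟩ := h0.1 h
        exact hs ((Chars.real_iff_irrConj_eq χ).2 heq s)
      · refine Or.inl ⟨h, (Chars.real_iff_irrConj_eq χ).1 fun s => ?_⟩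
        by_contra hs
        have := h0.2 ⟨s, hs⟩
        rw [h] at this
        exact one_ne_zero this
      · exact absurd h hne
    have hr34 : Chars.irrConj ζ₃ = ζ₃ ∧ Chars.irrConj ζ₄ = ζ₄ := by
      rcases hν ζ₂ (by rw [← hx₁, h5]; decide) with ⟨a1, -⟩ | ⟨-, a2⟩
      · rcases hν ζ₃ (by rw [← hx₂, h3]; decide) with ⟨b1, b2⟩ | ⟨b1, -⟩ <;>
          rcases hν ζ₄ (by rw [← hx₃, h3']; decide) with ⟨c1, c2⟩ | ⟨c1, -⟩ <;>
          rw [a1, b1, c1] at hind <;> norm_num at hind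
        exact ⟨b2, c2⟩
      · exact absurd hr2 a2
    have hreal : ∀ χ : IrrCharacter G, χ = ζ₂ ∨ χ = ζ₃ ∨ χ = ζ₄ → Chars.irrConj χ = χ := by
      rintro χ (rfl | rfl | rfl)
      exacts [hr2, hr34.1, hr34.2]
    have hgal : ∀ (σ : ℂ ≃+* ℂ) (χ : IrrCharacter G), χ = ζ₂ ∨ χ = ζ₃ ∨ χ = ζ₄ →
        GaloisChar.galIrr (σ : ℂ →+* ℂ) χ ∈ principalBlock M G := by
      intro σ χ hχ
      refine (Cfsg.Agent.S4483.result M hM).1 _ (fun g => ?_) ?_
      · rw [← Complex.conj_eq_iff_im, ← Chars.irr_inv, GaloisChar.galIrr_apply,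
          GaloisChar.galIrr_apply, Chars.irr_inv χ g,
          Complex.conj_eq_iff_im.2 ((Chars.real_iff_irrConj_eq χ).2 (hreal χ hχ) g)]
      · rw [charDegree_galIrr]
        rcases hχ with rfl | rfl | rfl
        · rw [← hx₁, h5]; decide
        · rw [← hx₂, h3]; decide
        · rw [← hx₃, h3']; decide
    refine ⟨ζ₂, ζ₃, ζ₄, fun σ => ?_, h5, h3, h3', fun g =>
      ⟨(Chars.real_iff_irrConj_eq ζ₃).2 hr34.1 g, (Chars.real_iff_irrConj_eq ζ₄).2 hr34.2 g⟩,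
      fun y hy => ?_⟩
    · have e2 : charDegree (GaloisChar.galIrr (σ : ℂ →+* ℂ) ζ₂ : G → ℂ) = 5 :=
        (charDegree_galIrr _ _).trans h5
      have e3 : charDegree (GaloisChar.galIrr (σ : ℂ →+* ℂ) ζ₃ : G → ℂ) = 3 :=
        (charDegree_galIrr _ _).trans h3
      have e4 : charDegree (GaloisChar.galIrr (σ : ℂ →+* ℂ) ζ₄ : G → ℂ) = 3 :=
        (charDegree_galIrr _ _).trans h3'
      have s2 : GaloisChar.galIrr (σ : ℂ →+* ℂ) ζ₂ = ζ₂ := by
        rcases hsel _ (hgal σ _ (Or.inl rfl)) (by omega) with ⟨h, -⟩ | ⟨-, h⟩ | ⟨-, h⟩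
        · exact h
        all_goals omega
      refine ⟨s2, ?_⟩
      have hinj := GaloisChar.galIrr_injective (G := G) (σ : ℂ →+* ℂ)
      rcases hsel _ (hgal σ ζ₃ (Or.inr (Or.inl rfl))) (by omega) with ⟨-, a⟩ | ⟨a, -⟩ | ⟨a, -⟩
      · omega
      · rcases hsel _ (hgal σ ζ₄ (Or.inr (Or.inr rfl))) (by omega) with ⟨-, c⟩ | ⟨c, -⟩ | ⟨c, -⟩
        · omega
        · exact absurd (hinj (a.trans c.symm)) n34
        · exact Or.inl ⟨a, c⟩
      · rcases hsel _ (hgal σ ζ₄ (Or.inr (Or.inr rfl))) (by omega) with ⟨-, c⟩ | ⟨c, -⟩ | ⟨c, -⟩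
        · omega
        · exact Or.inr ⟨a, c⟩
        · exact absurd (hinj (a.trans c.symm)) n34
    · have h := hrel y hy
      push_cast at h
      linear_combination -h

/-- A simple group of order `4 p ^ a q ^ b` with odd primes `p, q` has order 60. -/
theorem card_eq_sixty_of_four [IsSimpleGroup G] (hna : ¬ IsMulCommutative G)
    {p q a b : ℕ} (hp : p.Prime) (hq : q.Prime) (hpq : p ≠ q) (hp2 : p ≠ 2) (hq2 : q ≠ 2)
    (ha : 1 ≤ a) (hb : 1 ≤ b) (hG : Nat.card G = 4 * p ^ a * q ^ b) : Nat.card G = 60 := by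
  obtain ⟨ζ₂, ζ₃, ζ₄, hgal, h5, h3, h3', hreal, hrel⟩ :=
    exists_block_five_three_three hna hp hq hpq hp2 hq2 ha hG
  obtain ⟨i, j, hi, hj, hG'⟩ : ∃ i j : ℕ, 1 ≤ i ∧ 1 ≤ j ∧ Nat.card G = 4 * 5 ^ i * 3 ^ j := by
    have f5 := prime_dvd_cases (by norm_num : Nat.Prime 5) hp hq (hG ▸ h5 ▸ degree_dvd_card ζ₂)
    have f3 := prime_dvd_cases (by norm_num : Nat.Prime 3) hp hq (hG ▸ h3 ▸ degree_dvd_card ζ₃)
    rcases f5.resolve_left (by norm_num) with h | h <;>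
      rcases f3.resolve_left (by norm_num) with h' | h'
    · omega
    · subst h h'; exact ⟨a, b, ha, hb, hG⟩
    · subst h h'; exact ⟨b, a, hb, ha, by rw [hG]; ring⟩
    · omega
  have n2 : (ζ₂ : G → ℂ) ≠ fun _ => 1 := fun h => by rw [h, charDegree] at h5; simp at h5
  have n3 : (ζ₃ : G → ℂ) ≠ fun _ => 1 := fun h => by rw [h, charDegree] at h3; simp at h3
  have n4 : (ζ₄ : G → ℂ) ≠ fun _ => 1 := fun h => by rw [h, charDegree] at h3'; simp at h3'
  have hint : ∀ g : G, ∃ z : ℤ, (ζ₂ : G → ℂ) g = z := fun g =>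
    exists_int_of_fixed (Chars.irr_isIntegral ζ₂ g) fun σ =>
      congrFun (congrArg Subtype.val (hgal σ).1) g
  have hprodint : ∀ g : G, ∃ z : ℤ, (ζ₃ : G → ℂ) g * (ζ₄ : G → ℂ) g = z := fun g =>
    exists_int_of_fixed ((Chars.irr_isIntegral ζ₃ g).mul (Chars.irr_isIntegral ζ₄ g)) fun σ => by
      rw [map_mul]
      show (GaloisChar.galIrr (σ : ℂ →+* ℂ) ζ₃ : G → ℂ) g *
        (GaloisChar.galIrr (σ : ℂ →+* ℂ) ζ₄ : G → ℂ) g = _
      rcases (hgal σ).2 with ⟨e, e'⟩ | ⟨e, e'⟩ <;> rw [e, e']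
      exact mul_comm _ _
  have hd2 : (ζ₂ : G → ℂ) 1 = ((5 : ℤ) : ℂ) := by rw [degree_eq, h5]; norm_num
  haveI : Fact (Nat.Prime 5) := ⟨by norm_num⟩
  haveI : Fact (Nat.Prime 3) := ⟨Nat.prime_three⟩
  obtain ⟨R⟩ : Nonempty (Sylow 5 G) := inferInstance
  obtain ⟨T⟩ : Nonempty (Sylow 3 G) := inferInstance
  have hR : Nat.card (R : Subgroup G) = 5 ^ i :=
    SmallGroups.card_sylow_eq R (m := 4 * 3 ^ j) (by rw [hG']; ring) (fun h => by
      rcases (Nat.Prime.dvd_mul (by norm_num)).1 h with h | h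
      · norm_num at h
      · exact absurd ((Nat.prime_dvd_prime_iff_eq (by norm_num) Nat.prime_three).1
          (Nat.Prime.dvd_of_dvd_pow (by norm_num) h)) (by norm_num))
  have hT : Nat.card (T : Subgroup G) = 3 ^ j :=
    SmallGroups.card_sylow_eq T (m := 4 * 5 ^ i) (by rw [hG']; ring) (fun h => by
      rcases Nat.prime_three.dvd_mul.1 h with h | h
      · norm_num at h
      · exact absurd ((Nat.prime_dvd_prime_iff_eq Nat.prime_three (by norm_num)).1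
          (Nat.prime_three.dvd_of_dvd_pow h)) (by norm_num))
  have hi1 : i = 1 := by
    have h0 : ∀ g ∈ (R : Subgroup G), g ≠ 1 → (ζ₂ : G → ℂ) g = ((0 : ℤ) : ℂ) := by
      intro g hg hg1
      obtain ⟨z, hz⟩ := hint g
      obtain ⟨k, hk⟩ := pow_card_sylow R hg
      have hmod := dvd_sub_charDegree (by norm_num) ζ₂ hk hz
      have hlt := abs_lt_degree hna ζ₂ n2 hg1 hz
      rw [h5] at hmod hlt
      rw [hz, show z = 0 by push_cast at hmod hlt; omega]
    have hd := card_dvd_of_const (R : Subgroup G) (Chars.irr_isCharacter ζ₂) hd2 h0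
    rw [hR, sub_zero] at hd
    have hd' : 5 ^ i ≤ 5 ^ 1 := Nat.le_of_dvd (by norm_num) (by simpa using (by exact_mod_cast hd : 5 ^ i ∣ 5))
    have := (Nat.pow_le_pow_iff_right (by norm_num : 1 < 5)).1 hd'
    omega
  have hj1 : j = 1 := by
    have h0 : ∀ g ∈ (T : Subgroup G), g ≠ 1 → (ζ₂ : G → ℂ) g = ((-1 : ℤ) : ℂ) := by
      intro g hg hg1
      obtain ⟨z, hz⟩ := hint g
      obtain ⟨w, hw⟩ := hprodint g
      obtain ⟨k, hk⟩ := pow_card_sylow T hg
      have hmod := dvd_sub_charDegree Nat.prime_three ζ₂ hk hz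
      have hwmod : ((3 : ℕ) : ℤ) ∣ w - 9 :=
        dvd_sub_degree Nat.prime_three
          (Chars.isCharacter_mul (Chars.irr_isCharacter ζ₃) (Chars.irr_isCharacter ζ₄)) hk hw
          (by rw [Pi.mul_apply, degree_eq, degree_eq, h3, h3']; norm_num)
      have hlt := abs_lt_degree hna ζ₂ n2 hg1 hz
      rw [h5] at hmod hlt
      have hodd : Odd (orderOf g) :=
        Odd.of_dvd_nat (Nat.prime_three.odd_of_ne_two (by norm_num)).pow (orderOf_dvd_of_pow_eq_one hk)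
      have hs := hrel g hodd
      obtain ⟨u, hu⟩ : ∃ u : ℝ, (ζ₃ : G → ℂ) g = u :=
        ⟨_, (Complex.ext (by simp) (by simpa using (hreal g).1) : (ζ₃ : G → ℂ) g = (((ζ₃ : G → ℂ) g).re : ℂ))⟩
      obtain ⟨v, hv⟩ : ∃ v : ℝ, (ζ₄ : G → ℂ) g = v :=
        ⟨_, (Complex.ext (by simp) (by simpa using (hreal g).2) : (ζ₄ : G → ℂ) g = (((ζ₄ : G → ℂ) g).re : ℂ))⟩
      have hu3 := norm_lt_degree hna ζ₃ n3 hg1
      have hv3 := norm_lt_degree hna ζ₄ n4 hg1
      rw [hu, Complex.norm_real, Real.norm_eq_abs, h3, Nat.cast_ofNat, abs_lt] at hu3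
      rw [hv, Complex.norm_real, Real.norm_eq_abs, h3', Nat.cast_ofNat, abs_lt] at hv3
      rw [hu, hv, hz] at hs
      rw [hu, hv] at hw
      have hsR : u + v = 1 + (z : ℝ) := by exact_mod_cast hs
      have hwR : u * v = (w : ℝ) := by exact_mod_cast hw
      rw [hz]
      rcases (show z = -1 ∨ z = -4 ∨ z = 2 by push_cast at hmod hlt; omega) with rfl | rfl | rfl
      · rfl
      all_goals
        exfalso
        have hw0 : 0 < w := by exact_mod_cast (show (0 : ℝ) < (w : ℝ) by push_cast at hsR; nlinarith)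
        have hw2 : 4 * w ≤ 9 := by
          exact_mod_cast (show 4 * (w : ℝ) ≤ 9 by push_cast at hsR; nlinarith [sq_nonneg (u - v)])
        push_cast at hwmod
        omega
    have hd := card_dvd_of_const (T : Subgroup G) (Chars.irr_isCharacter ζ₂) hd2 h0
    rw [hT] at hd
    have hd' : 3 ^ j ∣ 6 := by
      have e : ((3 ^ j : ℕ) : ℤ) ∣ ((6 : ℕ) : ℤ) := by simpa using hd
      exact_mod_cast e
    have : 3 ^ j ≤ 6 := Nat.le_of_dvd (by norm_num) hd'
    have hj2 : j < 2 := by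
      by_contra h
      have : 3 ^ 2 ≤ 3 ^ j := Nat.pow_le_pow_right (by norm_num) (by omega)
      omega
    omega
  rw [hG', hi1, hj1]
  norm_num

end Cfsg.Agent.Lib.H66.SmallCofactor
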