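import Cfsg.Agent.Lib.H66.SmallCofactor.Three

/-!
# Simple groups of order `3 p ^ a 2 ^ b`: the final count
-/

set_option autoImplicit false

namespace Cfsg.Agent.Lib.H66.SmallCofactor

open Cfsg Cfsg.Agent.Lib

universe u

variable {G : Type u} [Group G] [Finite G]

theorem card_ne_120_of_index_six [IsSimpleGroup G] (hna : ¬ IsMulCommutative G) {H : Subgroup G}
    (hH : H ≠ ⊤) (hi : H.index = 6) : Nat.card G ≠ 120 := by
  classical
  intro hG
  obtain ⟨f, hf⟩ := SmallGroups.exists_injective_alternating hna hH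
  haveI : IsSimpleGroup (alternatingGroup (Fin H.index)) :=
    alternatingGroup.isSimpleGroup (by rw [Nat.card_eq_fintype_card, Fintype.card_fin, hi]; norm_num)
  haveI : Nontrivial (Fin H.index) := Fin.nontrivial_iff_two_le.2 (by omega)
  have hA : Nat.card (alternatingGroup (Fin H.index)) = 360 := by
    rw [nat_card_alternatingGroup, Nat.card_eq_fintype_card, Fintype.card_fin, hi]
    rfl
  have hcr : Nat.card f.range = 120 := by
    rw [← hG]
    exact (Nat.card_congr (MonoidHom.ofInjective hf).toEquiv).symm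
  have hir : f.range.index = 3 := by
    have := f.range.card_mul_index
    rw [hcr, hA] at this
    omega
  have hnc : ¬ IsMulCommutative (alternatingGroup (Fin H.index)) := fun h => hna ⟨⟨fun a b => by
    haveI := h
    exact hf (by rw [map_mul, map_mul]; exact h.1.1 _ _)⟩⟩
  have hne : f.range ≠ ⊤ := fun h => by
    rw [h, Subgroup.index_top] at hir; omega
  have hd := SmallGroups.two_mul_card_dvd_factorial hnc hne
  rw [hir, hA] at hd
  exact absurd (Nat.le_of_dvd (by decide) hd) (by decide)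

/-- A simple group of order `3 p ^ a 2 ^ b` with `p ≥ 5` and `a ≤ 2` has order 60 or 168. -/
theorem card_eq_of_three_two [IsSimpleGroup G] (hna : ¬ IsMulCommutative G) {p a b : ℕ}
    (hp : p.Prime) (hp5 : 5 ≤ p) (ha : 1 ≤ a) (ha2 : a ≤ 2) (hb : 1 ≤ b)
    (hG : Nat.card G = 3 * p ^ a * 2 ^ b) : Nat.card G = 60 ∨ Nat.card G = 168 := by
  classical
  haveI : Fact p.Prime := ⟨hp⟩
  cases nonempty_fintype G
  obtain ⟨M, ψ, φ, s, k, hM, hψB, hψ, hφ, hk, hs, hps, hint, hφψ⟩ :=
    exists_pair hna hp hp5 ha2 hG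
  have hψne : (ψ : G → ℂ) ≠ fun _ => 1 := fun h => by
    rw [h, charDegree] at hψ; simp at hψ; omega
  have hlt : ∀ g : G, g ≠ 1 → ∀ z : ℤ, (ψ : G → ℂ) g = z → -(p : ℤ) < z ∧ z < p := by
    intro g hg z hz
    have := abs_lt_degree hna ψ hψne hg hz
    rwa [hψ] at this
  obtain ⟨R⟩ : Nonempty (Sylow p G) := inferInstance
  have hnp : ¬ p ∣ 3 * 2 ^ b := fun h => by
    rcases hp.dvd_mul.1 h with h | h
    · exact absurd ((Nat.prime_dvd_prime_iff_eq hp Nat.prime_three).1 h) (by omega)
    · exact absurd ((Nat.prime_dvd_prime_iff_eq hp Nat.prime_two).1 (hp.dvd_of_dvd_pow h)) (by omega)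
  have hRcard : Nat.card (R : Subgroup G) = p ^ a :=
    SmallGroups.card_sylow_eq R (m := 3 * 2 ^ b) (by rw [hG]; ring) hnp
  have h0 : ∀ g ∈ (R : Subgroup G), g ≠ 1 → (ψ : G → ℂ) g = 0 := by
    intro g hg hg1
    obtain ⟨z, hz⟩ := hint g
    obtain ⟨j, hj⟩ := pow_card_sylow R hg
    have hmod := dvd_sub_charDegree hp ψ hj hz
    rw [hψ] at hmod
    have hz0 : z = 0 := Int.eq_zero_of_abs_lt_dvd
      (by simpa using dvd_add hmod (dvd_refl (p : ℤ))) (abs_lt.2 (hlt g hg1 z hz))
    rw [hz, hz0, Int.cast_zero]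
  obtain rfl : a = 1 := by
    have hd := card_dvd_of_const (R : Subgroup G) (Chars.irr_isCharacter ψ) (d := (p : ℤ)) (z := 0)
      (by rw [degree_eq, hψ, Int.cast_natCast]) (fun g hg hg1 => by rw [h0 g hg hg1, Int.cast_zero])
    rw [hRcard, sub_zero, Int.natCast_dvd_natCast] at hd
    have := (Nat.pow_dvd_pow_iff_le_right hp.one_lt).1 (hd.trans (dvd_of_eq (pow_one p).symm))
    omega
  rw [pow_one] at hRcard hG
  obtain ⟨u, hu, hu1⟩ : ∃ u ∈ (R : Subgroup G), u ≠ 1 := by
    by_contra h
    push Not at h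
    have h1 : Nat.card (R : Subgroup G) = 1 := by
      rw [(Subgroup.eq_bot_iff_forall _).2 h, Subgroup.card_bot]
    exact hp.ne_one (hRcard.symm.trans h1)
  obtain ⟨-, hou⟩ := DefectOne.sylow_eq_zpowers R hRcard hu hu1
  have hC := centralizer_eq_sylow hp5 hG R hRcard ψ hψ hint hlt hu hu1
  set N := Subgroup.normalizer ((R : Subgroup G) : Set G) with hN
  set C := Subgroup.centralizer ((R : Subgroup G) : Set G) with hCdef
  have hCR : C = (R : Subgroup G) := by rw [hCdef, DefectOne.centralizer_sylow R hRcard hu hu1, hC]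
  obtain ⟨e, he⟩ : ∃ e, C.relIndex N = e := ⟨_, rfl⟩
  have hedvd : e ∣ p - 1 := by
    obtain ⟨S, rfl, -, -⟩ := DefectOne.exists_local R hRcard hu hu1
    rw [← he, hCdef, hN, DefectOne.relIndex_centralizer R hRcard hu hu1]
    exact DefectOne.card_fusion_dvd S
  have he1 : e ≠ 1 := fun h => SmallGroups.not_normalizer_le_centralizer hna
    (hRcard ▸ (R : Subgroup G).card_subgroup_dvd_card) R (Subgroup.relIndex_eq_one.1 (he.trans h))
  have hle : C ≤ N := by
    rw [hCR, hN]
    exact Subgroup.le_normalizer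
  have hen : e * N.index = 3 * 2 ^ b := by
    have h1 := Subgroup.relIndex_mul_index hle
    have h2 := (R : Subgroup G).card_mul_index
    rw [hRcard, hG, show 3 * p * 2 ^ b = p * (3 * 2 ^ b) by ring] at h2
    rw [← he, h1, hCR]
    exact Nat.eq_of_mul_eq_mul_left hp.pos h2
  have hn1 : N.index % p = 1 := by
    have h := card_sylow_modEq_one p G
    rw [R.card_eq_index_normalizer] at h
    change N.index ≡ 1 [MOD p] at h
    unfold Nat.ModEq at h
    rwa [Nat.mod_eq_of_lt hp.one_lt] at h
  have hNtop : N ≠ ⊤ := SmallGroups.normalizer_sylow_ne_top hna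
    (hRcard ▸ (R : Subgroup G).card_subgroup_dvd_card) R
  have hou3 : ¬ 3 ∣ orderOf u := by
    rw [hou]
    exact fun h => absurd ((Nat.prime_dvd_prime_iff_eq Nat.prime_three hp).1 h) (by omega)
  have hφu : (φ : G → ℂ) u = (s : ℂ) := by rw [hφψ u hou3, h0 u hu hu1, zero_add]
  have hep : 0 < e := by
    rcases Nat.eq_zero_or_pos e with rfl | h
    · rw [zero_mul] at hen
      exact absurd hen.symm (by positivity)
    · exact h
  rcases Nat.lt_or_ge 5 p with hp7 | hp5'
  · -- `p ≥ 7`: the automiser has order 3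
    have hp6 : p ≠ 6 := fun h => by rw [h] at hp; norm_num at hp
    have h3e : 3 ∣ e := by
      by_contra h3
      have hed : e ∣ 3 * 2 ^ b := Dvd.intro _ hen
      obtain ⟨j, hjb, rfl⟩ := (Nat.dvd_prime_pow Nat.prime_two).1
        (((Nat.prime_three.coprime_iff_not_dvd.2 h3).symm).dvd_of_dvd_mul_left hed)
      obtain ⟨r, rfl⟩ := Nat.exists_eq_add_of_le hjb
      have hn : N.index = 3 * 2 ^ r := by
        rw [pow_add, ← mul_assoc, mul_comm 3 (2 ^ j), mul_assoc] at hen
        exact Nat.eq_of_mul_eq_mul_left (by positivity) hen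
      rw [hn] at hn1
      have hd : (p : ℤ) ∣ 3 * 2 ^ r - 1 := by
        have h := Int.natCast_dvd_natCast.2 (Nat.dvd_sub_mod (3 * 2 ^ r) (n := p))
        rw [hn1, Nat.cast_sub (by have := Nat.one_le_two_pow (n := r); omega)] at h
        push_cast at h
        exact h
      have := eq_five_of_residue hp5 hs hk hd
      omega
    have h3p : 3 ∣ p - 1 := h3e.trans hedvd
    obtain rfl : s = 1 := by
      rcases hs with rfl | rfl
      · rfl
      · exfalso; omega
    have hk' : 2 ^ k = p + 1 := by exact_mod_cast hk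
    have hp3 : p % 3 = 1 := by omega
    have hk3 : 3 ≤ k := by
      by_contra h
      have : 2 ^ k ≤ 2 ^ 2 := Nat.pow_le_pow_right (by norm_num) (by omega)
      omega
    have hp4 : p % 4 = 3 := by
      obtain ⟨w, rfl⟩ := Nat.exists_eq_add_of_le hk3
      rw [pow_add] at hk'
      omega
    have h6 : ¬ 6 ∣ e := fun h => not_six_dvd hna (by omega) hp4 hp3 hG hM R hRcard hu hu1 hC ψ hψB
      hψ hint h0 (by rw [← hCdef, ← hN, he]; exact h)
    have he3 : e = 3 := by
      have hed : e ∣ 3 * 2 ^ b := Dvd.intro _ hen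
      obtain ⟨e', rfl⟩ := h3e
      have hodd : Odd e' := by
        rw [Nat.odd_iff]
        omega
      have h1 : e' ∣ 2 ^ b := Nat.dvd_of_mul_dvd_mul_left (by norm_num) hed
      have h2 : e' = 1 :=
        Nat.Coprime.eq_one_of_dvd ((Nat.coprime_two_right.2 hodd).pow_right b) h1
      rw [h2]
    subst he3
    have hnb : N.index = 2 ^ b := Nat.eq_of_mul_eq_mul_left (by norm_num) hen
    right
    refine card_eq_of_index_three hna (by omega) hb hk' hG R hRcard hu hu1 hC φ hφ
      (fun g hg => ?_) (by rw [hφu, Int.cast_one]) he (hnb ▸ hn1)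
    obtain ⟨z, hz⟩ := hint g
    exact ⟨z + 1, by rw [hφψ g hg, hz]; push_cast; ring⟩
  · -- `p = 5`
    obtain rfl : p = 5 := by omega
    obtain rfl : s = -1 := by
      rcases hs with rfl | rfl
      · norm_num at hps
      · rfl
    obtain rfl : k = 2 := by
      have h : (2 : ℕ) ^ k = 2 ^ 2 := by exact_mod_cast (show (2 : ℤ) ^ k = 2 ^ 2 by rw [hk]; norm_num)
      exact Nat.pow_right_injective le_rfl h
    haveI : Fact (Nat.Prime 2) := ⟨Nat.prime_two⟩
    obtain ⟨T⟩ : Nonempty (Sylow 2 G) := inferInstance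
    have hT : Nat.card (T : Subgroup G) = 2 ^ b :=
      SmallGroups.card_sylow_eq T (m := 15) (by rw [hG]; ring) (by norm_num)
    have hφne : (φ : G → ℂ) ≠ fun _ => 1 := fun h => by rw [h, charDegree] at hφ; simp at hφ
    have hval : ∀ g : (T : Subgroup G), ∃ w : ℤ, (φ : G → ℂ) g = w ∧
        ((g : G) ≠ 1 → w ^ 3 - 4 * w = 0) := by
      rintro ⟨g, hg⟩
      obtain ⟨j, hj⟩ := pow_card_sylow T hg
      have h3 : ¬ 3 ∣ orderOf g := by
        intro h
        exact absurd ((Nat.prime_dvd_prime_iff_eq Nat.prime_three Nat.prime_two).1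
          (Nat.prime_three.dvd_of_dvd_pow (h.trans (orderOf_dvd_of_pow_eq_one hj)))) (by norm_num)
      obtain ⟨z, hz⟩ := hint g
      refine ⟨z - 1, by rw [hφψ g h3, hz]; push_cast; ring, fun hg1 => ?_⟩
      have hψb := hlt g hg1 z hz
      have hφb := abs_lt_degree hna φ hφne hg1 (z := z - 1) (by
        rw [hφψ g h3, hz]; push_cast; ring)
      have hmod := dvd_sub_charDegree Nat.prime_two ψ hj hz
      rw [hψ] at hmod
      rw [hφ] at hφb
      push_cast at hψb hφb hmod
      rcases (show z = -1 ∨ z = 1 ∨ z = 3 by omega) with rfl | rfl | rfl <;> norm_num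
    choose w hw hw' using hval
    have hw1 : w 1 = 4 := by
      have h := hw 1
      rw [Subgroup.coe_one, degree_eq, hφ] at h
      norm_num at h
      exact_mod_cast h.symm
    haveI := Fintype.ofFinite (T : Subgroup G)
    obtain ⟨k1, hk1⟩ := exists_nat_sum_hom (T : Subgroup G).subtype (Chars.irr_isCharacter φ) w hw
    obtain ⟨k3, hk3⟩ := exists_nat_sum_hom (T : Subgroup G).subtype
      (Chars.isCharacter_mul (Chars.isCharacter_mul (Chars.irr_isCharacter φ)
        (Chars.irr_isCharacter φ)) (Chars.irr_isCharacter φ)) (fun g => w g ^ 3) fun g => by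
      simp only [Pi.mul_apply, Subgroup.coe_subtype, hw]
      push_cast
      ring
    have h48 : (2 ^ b : ℤ) ∣ 48 := by
      have hsum : ∑ g, (w g ^ 3 - 4 * w g) = 48 := by
        rw [Finset.sum_eq_single (1 : (T : Subgroup G))
          (fun g _ hg => hw' g fun h => hg (Subtype.ext h)) (by simp), hw1]
        norm_num
      rw [Finset.sum_sub_distrib, ← Finset.mul_sum, hk1, hk3, hT] at hsum
      push_cast at hsum
      exact ⟨k3 - 4 * k1, by linear_combination -hsum⟩
    have hb4 : b ≤ 4 := by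
      have h48' : 2 ^ b ∣ 48 := by exact_mod_cast h48
      have h16 : 2 ^ b ∣ 2 ^ 4 := (Nat.Coprime.pow_left b (by norm_num : Nat.Coprime 2 3)).dvd_of_dvd_mul_right
        (show 2 ^ b ∣ 2 ^ 4 * 3 by norm_num; exact h48')
      exact (Nat.pow_dvd_pow_iff_le_right (by norm_num)).1 h16
    have he' : e = 2 ∨ e = 4 := by
      have h4 : e ∣ 4 := by simpa using hedvd
      have := Nat.le_of_dvd (by norm_num) h4
      interval_cases e <;> omega
    left
    rcases he' with rfl | rfl
    · interval_cases b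
      all_goals first | (norm_num at hen ⊢; omega) | (rw [hG]; norm_num)
    · interval_cases b
      · exfalso; norm_num at hen; omega
      · exfalso; norm_num at hen; omega
      · exfalso
        have hi : N.index = 6 := by norm_num at hen; omega
        exact card_ne_120_of_index_six hna hNtop hi (by rw [hG]; norm_num)
      · exfalso; norm_num at hen; omega

end Cfsg.Agent.Lib.H66.SmallCofactor
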