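import Mathlib
import Cfsg.Agent.Lib.DefectOne.PrincipalStructure
import Cfsg.Agent.Lib.H66.SmallCofactor.Basic

/-!
# The principal block for a Sylow subgroup of order `p`: Galois stability and the case `p = 3`
-/

set_option autoImplicit false

namespace Cfsg.Agent.Lib.H66.SmallCofactor

open Cfsg Cfsg.Agent.Lib Finset
open Cfsg.Agent.Lib.DefectOne
open Cfsg.Agent.Lib.SmallGroups.PrimeChar (xp xp_one)

universe u

variable {G : Type u} [Group G] [Fintype G] {p : ℕ} [Fact p.Prime]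

theorem profile_galIrr (S : Local p G) (σ : ℂ →+* ℂ) (χ : IrrCharacter G) (j : ZMod p) :
    profile S (GaloisChar.galIrr σ χ) j = σ (profile S χ j) := by
  classical
  haveI := Fintype.ofFinite S.V
  simp only [profile, avgVal, finsum_eq_sum_of_fintype, map_mul, map_inv₀, map_natCast, map_sum,
    GaloisChar.galIrr_apply]

variable {M : Ideal AlgInt} (hM : IsPModular p M) (P : Sylow p G) (hP : Nat.card P = p)
include hM hP

theorem galIrr_mem_principalBlock (σ : ℂ →+* ℂ) {χ : IrrCharacter G}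
    (hχ : χ ∈ principalBlock M G) : GaloisChar.galIrr σ χ ∈ principalBlock M G := by
  haveI := Blocks.isPModular_isPrime hM
  obtain ⟨x, hx, hx1⟩ : ∃ x ∈ (P : Subgroup G), x ≠ 1 := by
    by_contra h
    push Not at h
    have h1 : Nat.card (P : Subgroup G) = 1 := by
      rw [(Subgroup.eq_bot_iff_forall _).2 h, Subgroup.card_bot]
    exact (Fact.out : p.Prime).ne_one (hP.symm.trans h1)
  obtain ⟨S, rfl, hV, -⟩ := exists_local P hP hx hx1
  have hidx := not_dvd_centralizer_index P hP hx hx1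
  rw [mem_principalBlock_iff S hM hV hidx _ (one_ne_zero (α := ZMod p))] at hχ ⊢
  rw [profile_galIrr, map_ne_zero_iff σ σ.injective]
  exact hχ

/-- A `p`-regular element centralising `x` does not change the value at `x` of a character of the
principal block. -/
theorem apply_mul_of_mem {χ : IrrCharacter G} (hχ : χ ∈ principalBlock M G) {x : G}
    (hx : x ∈ (P : Subgroup G)) (hx1 : x ≠ 1) {v : G} (hv : Commute v x) (hreg : ¬ p ∣ orderOf v) :
    (χ : G → ℂ) (x * v) = (χ : G → ℂ) x := by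
  haveI := Blocks.isPModular_isPrime hM
  obtain ⟨S, rfl, hV, hall⟩ := exists_local P hP hx hx1
  have h := apply_coset S hV hM hχ (one_ne_zero (α := ZMod p))
    (hall v (Subgroup.mem_centralizer_singleton_iff.2 hv) hreg)
  rwa [xp_one] at h

/-- If `x` is self-centralising, any character not vanishing at `x` lies in the principal block. -/
theorem mem_of_apply_ne_zero {χ : IrrCharacter G} {x : G} (hx : x ∈ (P : Subgroup G))
    (hx1 : x ≠ 1) (hC : Subgroup.centralizer ({x} : Set G) = (P : Subgroup G))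
    (h : (χ : G → ℂ) x ≠ 0) : χ ∈ principalBlock M G := by
  classical
  haveI := Blocks.isPModular_isPrime hM
  obtain ⟨S, rfl, hV, -⟩ := exists_local P hP hx hx1
  have hidx := not_dvd_centralizer_index P hP hx hx1
  rw [mem_principalBlock_iff S hM hV hidx χ (one_ne_zero (α := ZMod p))]
  have hbot : ∀ v : S.V, v = 1 := by
    intro v
    have hvP : (v : G) ∈ (P : Subgroup G) := by
      rw [← hC, Subgroup.mem_centralizer_singleton_iff]
      exact (S.commute v v.2).eq.symm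
    have h1 : orderOf (v : G) ∣ p := by
      have := Subgroup.orderOf_dvd_natCard _ hvP
      rwa [hP] at this
    have h2 : orderOf (v : G) ∣ Nat.card S.V := Subgroup.orderOf_dvd_natCard _ v.2
    have h3 : orderOf (v : G) = 1 := Nat.eq_one_of_dvd_coprimes
      ((Fact.out : p.Prime).coprime_iff_not_dvd.2 S.coprime) h1 h2
    exact Subtype.ext (orderOf_eq_one_iff.1 h3)
  haveI : Subsingleton S.V := ⟨fun a b => by rw [hbot a, hbot b]⟩
  haveI := Fintype.ofFinite S.V
  have hval : profile S χ 1 = (χ : G → ℂ) S.x := by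
    rw [profile, avgVal, finsum_eq_sum_of_fintype, Fintype.sum_subsingleton _ (1 : S.V),
      Nat.card_eq_fintype_card, Fintype.card_eq_one_iff.2 ⟨1, fun y => Subsingleton.elim y 1⟩]
    simp [xp_one]
  rwa [hval]

omit hM hP in
theorem pick_of_trivial {c₁ c₂ c₃ : IrrCharacter G} {d₁ d₂ d₃ : ℤ}
    (hd₁ : d₁ = 1 ∨ d₁ = -1) (hc₁ : c₁ = Chars.trivialIrr G)
    (hdeg₁ : (charDegree (c₁ : G → ℂ) : ℤ) ≡ d₁ [ZMOD 3]) (g : G)
    (hrel : (d₁ : ℂ) * (c₁ : G → ℂ) g + d₂ * (c₂ : G → ℂ) g + d₃ * (c₃ : G → ℂ) g = 0) :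
    1 + (d₂ : ℂ) * (c₂ : G → ℂ) g + d₃ * (c₃ : G → ℂ) g = 0 := by
  subst hc₁
  have h1 : charDegree (Chars.trivialIrr G : G → ℂ) = 1 := by simp [charDegree]
  rw [h1] at hdeg₁
  obtain rfl : d₁ = 1 := by
    rcases hd₁ with rfl | rfl
    · rfl
    · exact absurd hdeg₁ (by decide)
  simpa using hrel

end Cfsg.Agent.Lib.H66.SmallCofactor

namespace Cfsg.Agent.Lib.H66.SmallCofactor

open Cfsg Cfsg.Agent.Lib Finset

universe u

variable {G : Type u} [Group G] [Fintype G]

/-- The principal 3-block when a Sylow 3-subgroup has order 3 and is inverted: three characters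
with a linear relation on 3-regular elements. -/
theorem exists_three_block {M : Ideal AlgInt} (hM : IsPModular 3 M) [Fact (Nat.Prime 3)]
    (P : Sylow 3 G) (hP : Nat.card P = 3)
    (he : (Subgroup.centralizer ((P : Subgroup G) : Set G)).relIndex
      (Subgroup.normalizer ((P : Subgroup G) : Set G)) = 2) :
    ∃ (α β : IrrCharacter G) (dα dβ : ℤ),
      α ≠ Chars.trivialIrr G ∧ β ≠ Chars.trivialIrr G ∧ α ≠ β ∧
      (∀ χ : IrrCharacter G, χ ∈ principalBlock M G ↔ χ = Chars.trivialIrr G ∨ χ = α ∨ χ = β) ∧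
      (dα = 1 ∨ dα = -1) ∧ (dβ = 1 ∨ dβ = -1) ∧
      (charDegree (α : G → ℂ) : ℤ) ≡ dα [ZMOD 3] ∧ (charDegree (β : G → ℂ) : ℤ) ≡ dβ [ZMOD 3] ∧
      ∀ g : G, ¬ 3 ∣ orderOf g →
        1 + (dα : ℂ) * (α : G → ℂ) g + (dβ : ℂ) * (β : G → ℂ) g = 0 := by
  classical
  haveI := Blocks.isPModular_isPrime hM
  obtain ⟨A, B, δ, ε, hblock, hdisj, hA, hB, hAprop, hε, hBdeg, hrel⟩ :=
    DefectOne.exists_principal hM P hP 2 he
  rw [show (3 - 1) / 2 = 1 from rfl] at hB
  obtain ⟨θ, rfl⟩ := Finset.card_eq_one.1 hB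
  obtain ⟨c₁, c₂, h12, rfl⟩ := Finset.card_eq_two.1 hA
  rw [Finset.disjoint_singleton_right, Finset.mem_insert, Finset.mem_singleton, not_or] at hdisj
  obtain ⟨h13, h23⟩ := hdisj
  obtain ⟨hd1, hg1, -⟩ := hAprop c₁ (by simp)
  obtain ⟨hd2, hg2, -⟩ := hAprop c₂ (by simp)
  have hg3 : (charDegree (θ : G → ℂ) : ℤ) ≡ -ε [ZMOD 3] :=
    (hBdeg θ (by simp)).trans (Int.modEq_iff_dvd.2 ⟨-ε, by push_cast; ring⟩)
  have hd3 : -ε = 1 ∨ -ε = -1 := by omega
  have hr : ∀ g : G, ¬ 3 ∣ orderOf g → (δ c₁ : ℂ) * (c₁ : G → ℂ) g + (δ c₂ : ℂ) * (c₂ : G → ℂ) g +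
      ((-ε : ℤ) : ℂ) * (θ : G → ℂ) g = 0 := by
    intro g hg
    have h := hrel θ (by simp) g hg
    rw [Finset.sum_pair h12] at h
    push_cast
    linear_combination -h
  have hmem : ∀ χ : IrrCharacter G, χ ∈ principalBlock M G ↔ χ = c₁ ∨ χ = c₂ ∨ χ = θ := by
    intro χ
    simp [hblock]; tauto
  have htriv : Chars.trivialIrr G ∈ principalBlock M G := by
    intro g
    rw [show ((Chars.trivialIrr G : G → ℂ)) = fun _ => (1 : ℂ) from rfl, sub_self]
    exact Blocks.memLocalIdeal_zero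
  rcases (hmem _).1 htriv with h | h | h
  · refine ⟨c₂, θ, δ c₂, -ε, fun e => h12 (h.symm.trans e.symm), fun e => h13 (e.trans h), fun e => h23 e.symm,
      fun χ => by rw [hmem χ, h], hd2, hd3, hg2, hg3, fun g hg => ?_⟩
    exact pick_of_trivial hd1 h.symm hg1 g (hr g hg)
  · refine ⟨c₁, θ, δ c₁, -ε, fun e => h12 (e.trans h), fun e => h23 (e.trans h), fun e => h13 e.symm,
      fun χ => by rw [hmem χ, h]; tauto, hd1, hd3, hg1, hg3, fun g hg => ?_⟩
    exact pick_of_trivial (c₂ := c₁) (c₃ := θ) (d₂ := δ c₁) (d₃ := -ε) hd2 h.symm hg2 g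
      (by linear_combination hr g hg)
  · refine ⟨c₁, c₂, δ c₁, δ c₂, fun e => h13 (h.symm.trans e.symm), fun e => h23 (h.symm.trans e.symm), h12,
      fun χ => by rw [hmem χ, h]; tauto, hd1, hd2, hg1, hg2, fun g hg => ?_⟩
    exact pick_of_trivial (c₂ := c₁) (c₃ := c₂) (d₂ := δ c₁) (d₃ := δ c₂) hd3 h.symm hg3 g
      (by linear_combination hr g hg)

end Cfsg.Agent.Lib.H66.SmallCofactor
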