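import Cfsg.Agent.Lib.H66.SmallCofactor.Basic
import Cfsg.Agent.Lib.Chars.DefectZero
import Cfsg.Agent.Lib.H66.SmallCofactor.Arith
import Cfsg.Agent.Lib.H66.SmallCofactor.ThreeBlock
import Cfsg.Agent.Lib.H66.SmallCofactor.Dihedral

/-!
# Simple groups of order `3 p ^ a 2 ^ b`
-/

set_option autoImplicit false

namespace Cfsg.Agent.Lib.H66.SmallCofactor

open Cfsg Cfsg.Agent.Lib
open scoped ComplexConjugate

universe u

variable {G : Type u} [Group G] [Finite G]

/-- The automiser of a Sylow 3-subgroup of order 3 in a simple group has order two. -/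
theorem relIndex_eq_two [IsSimpleGroup G] (hna : ¬ IsMulCommutative G) [Fact (Nat.Prime 3)]
    (P : Sylow 3 G) (hP : Nat.card P = 3) :
    (Subgroup.centralizer ((P : Subgroup G) : Set G)).relIndex
      (Subgroup.normalizer ((P : Subgroup G) : Set G)) = 2 := by
  cases nonempty_fintype G
  obtain ⟨x, hx, hx1⟩ : ∃ x ∈ (P : Subgroup G), x ≠ 1 := by
    by_contra h
    push Not at h
    have h1 : Nat.card (P : Subgroup G) = 1 := by
      rw [(Subgroup.eq_bot_iff_forall _).2 h, Subgroup.card_bot]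
    exact absurd (hP.symm.trans h1) (by norm_num)
  obtain ⟨S, rfl, -, -⟩ := DefectOne.exists_local P hP hx hx1
  have h := DefectOne.card_fusion_dvd S
  rw [← DefectOne.relIndex_centralizer P hP hx hx1] at h
  refine ((Nat.dvd_prime Nat.prime_two).1 h).resolve_left fun h1 => ?_
  exact SmallGroups.not_normalizer_le_centralizer hna
    (by have := (P : Subgroup G).card_subgroup_dvd_card; rwa [hP] at this) P
    (Subgroup.relIndex_eq_one.1 h1)

/-- The two non-principal characters of the principal 3-block. -/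
theorem exists_pair [IsSimpleGroup G] (hna : ¬ IsMulCommutative G) {p a b : ℕ} (hp : p.Prime)
    (hp5 : 5 ≤ p) (ha : a ≤ 2) (hG : Nat.card G = 3 * p ^ a * 2 ^ b) :
    ∃ (M : Ideal AlgInt) (ψ φ : IrrCharacter G) (s : ℤ) (k : ℕ),
      IsPModular 3 M ∧ ψ ∈ principalBlock M G ∧ charDegree (ψ : G → ℂ) = p ∧
      charDegree (φ : G → ℂ) = 2 ^ k ∧ (2 : ℤ) ^ k = p + s ∧ (s = 1 ∨ s = -1) ∧
      (3 : ℤ) ∣ (p : ℤ) - s ∧ (∀ g, ∃ z : ℤ, (ψ : G → ℂ) g = z) ∧
      ∀ g, ¬ 3 ∣ orderOf g → (φ : G → ℂ) g = (ψ : G → ℂ) g + (s : ℂ) := by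
  classical
  haveI : Fact (Nat.Prime 3) := ⟨Nat.prime_three⟩
  cases nonempty_fintype G
  obtain ⟨M, hM⟩ := CharCount.exists_isPModular 3 Nat.prime_three
  obtain ⟨P⟩ : Nonempty (Sylow 3 G) := inferInstance
  have hP : Nat.card (P : Subgroup G) = 3 := by
    have h : ¬ 3 ∣ p ^ a * 2 ^ b := fun h => by
      rcases Nat.prime_three.dvd_mul.1 h with h | h
      · exact absurd ((Nat.prime_dvd_prime_iff_eq Nat.prime_three hp).1
          (Nat.prime_three.dvd_of_dvd_pow h)) (by omega)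
      · exact absurd ((Nat.prime_dvd_prime_iff_eq Nat.prime_three Nat.prime_two).1
          (Nat.prime_three.dvd_of_dvd_pow h)) (by norm_num)
    simpa using SmallGroups.card_sylow_eq P (k := 1) (by rw [hG]; ring) h
  obtain ⟨α, β, dα, dβ, nα, nβ, -, hmem, hdα, hdβ, cα, cβ, hrel⟩ :=
    exists_three_block hM P hP (relIndex_eq_two hna P hP)
  have gα := one_lt_degree hna α fun h => nα (Subtype.ext h)
  have gβ := one_lt_degree hna β fun h => nβ (Subtype.ext h)
  have hone : 1 + dα * (charDegree (α : G → ℂ) : ℤ) + dβ * (charDegree (β : G → ℂ) : ℤ) = 0 := by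
    have h := hrel 1 (by simp)
    rw [degree_eq, degree_eq] at h
    exact_mod_cast h
  suffices key : ∀ (α β : IrrCharacter G) (dα dβ : ℤ),
      (∀ χ : IrrCharacter G, χ ∈ principalBlock M G ↔ χ = Chars.trivialIrr G ∨ χ = α ∨ χ = β) →
      (dα = 1 ∨ dα = -1) → (dβ = 1 ∨ dβ = -1) →
      (charDegree (α : G → ℂ) : ℤ) ≡ dα [ZMOD 3] → (charDegree (β : G → ℂ) : ℤ) ≡ dβ [ZMOD 3] →
      1 < charDegree (α : G → ℂ) → 1 < charDegree (β : G → ℂ) →
      1 + dα * (charDegree (α : G → ℂ) : ℤ) + dβ * (charDegree (β : G → ℂ) : ℤ) = 0 →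
      (∀ g : G, ¬ 3 ∣ orderOf g →
        1 + (dα : ℂ) * (α : G → ℂ) g + (dβ : ℂ) * (β : G → ℂ) g = 0) →
      Odd (charDegree (α : G → ℂ)) →
      ∃ (ψ φ : IrrCharacter G) (s : ℤ) (k : ℕ), ψ ∈ principalBlock M G ∧
        charDegree (ψ : G → ℂ) = p ∧
        charDegree (φ : G → ℂ) = 2 ^ k ∧ (2 : ℤ) ^ k = p + s ∧ (s = 1 ∨ s = -1) ∧
        (3 : ℤ) ∣ (p : ℤ) - s ∧ (∀ g, ∃ z : ℤ, (ψ : G → ℂ) g = z) ∧
        ∀ g, ¬ 3 ∣ orderOf g → (φ : G → ℂ) g = (ψ : G → ℂ) g + (s : ℂ) by
    rcases Nat.even_or_odd (charDegree (α : G → ℂ)) with he | ho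
    · have hoβ : Odd (charDegree (β : G → ℂ)) := by
        rw [Nat.odd_iff]
        obtain ⟨c, hc⟩ := he
        rcases hdα with rfl | rfl <;> rcases hdβ with rfl | rfl <;> omega
      obtain ⟨ψ, φ, s, k, h⟩ := key β α dβ dα (fun χ => by rw [hmem χ]; tauto) hdβ hdα cβ cα gβ gα
        (by linarith) (fun g hg => by linear_combination hrel g hg) hoβ
      exact ⟨M, ψ, φ, s, k, hM, h⟩
    · obtain ⟨ψ, φ, s, k, h⟩ := key α β dα dβ hmem hdα hdβ cα cβ gα gβ hone hrel ho
      exact ⟨M, ψ, φ, s, k, hM, h⟩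
  clear! α β dα dβ
  intro α β dα dβ hmem hdα hdβ cα cβ gα gβ hone hrel ho
  have hn3 : ∀ (n : ℕ) (d : ℤ), (d = 1 ∨ d = -1) → (n : ℤ) ≡ d [ZMOD 3] → ¬ 3 ∣ n := by
    intro n d hd hc h3
    obtain ⟨c, hc'⟩ := Int.modEq_iff_dvd.1 hc
    omega
  have hconsec : charDegree (α : G → ℂ) = charDegree (β : G → ℂ) + 1 ∨
      charDegree (β : G → ℂ) = charDegree (α : G → ℂ) + 1 := by
    rcases hdα with rfl | rfl <;> rcases hdβ with rfl | rfl <;> omega
  obtain ⟨hαp, k, hβk⟩ := consecutive_degrees hp hp5 ha gα gβ hconsec ho (hn3 _ _ hdα cα)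
    (hn3 _ _ hdβ cβ) (hG ▸ degree_dvd_card α) (hG ▸ degree_dvd_card β)
  have hβα : dβ = -dα := by
    rcases hdα with rfl | rfl <;> rcases hdβ with rfl | rfl <;> omega
  subst hβα
  rw [hαp] at hone cα
  refine ⟨α, β, dα, k, (hmem α).2 (Or.inr (Or.inl rfl)), hαp, hβk, ?_, hdα,
    ?_, fun g => ?_, fun g hg => ?_⟩
  · rw [hβk] at hone
    push_cast at hone
    rcases hdα with rfl | rfl <;> linarith
  · exact Int.modEq_iff_dvd.1 cα.symm
  · refine exists_int_of_fixed (Chars.irr_isIntegral α g) fun σ => ?_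
    have hm := galIrr_mem_principalBlock hM P hP (σ : ℂ →+* ℂ) ((hmem α).2 (Or.inr (Or.inl rfl)))
    have hd : charDegree (GaloisChar.galIrr (σ : ℂ →+* ℂ) α : G → ℂ) = p :=
      (charDegree_galIrr _ _).trans hαp
    rcases (hmem _).1 hm with h | h | h
    · exfalso
      rw [h] at hd
      simp [charDegree] at hd
      omega
    · exact congrFun (congrArg Subtype.val h) g
    · exfalso
      rw [h, hβk] at hd
      rw [hαp] at ho
      rcases Nat.eq_zero_or_pos k with rfl | hk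
      · simp at hd; omega
      · obtain ⟨k, rfl⟩ : ∃ m, k = m + 1 := ⟨k - 1, by omega⟩
        rw [pow_succ] at hd
        rw [← hd] at ho
        exact absurd (Nat.odd_mul.1 ho).2 (by decide)
  · have h := hrel g hg
    have hsq : (dα : ℂ) * dα = 1 := by rcases hdα with rfl | rfl <;> norm_num
    push_cast at h
    linear_combination (-(dα : ℂ)) * h + ((α : G → ℂ) g - (β : G → ℂ) g) * hsq

/-- The centraliser of an element of order `p` is the Sylow `p`-subgroup. -/
theorem centralizer_eq_sylow {p b : ℕ} [hp : Fact p.Prime] (hp5 : 5 ≤ p) (hG : Nat.card G = 3 * p * 2 ^ b)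
    (R : Sylow p G) (hR : Nat.card R = p) (ψ : IrrCharacter G)
    (hψ : charDegree (ψ : G → ℂ) = p) (hint : ∀ g, ∃ z : ℤ, (ψ : G → ℂ) g = z)
    (hlt : ∀ g : G, g ≠ 1 → ∀ z : ℤ, (ψ : G → ℂ) g = z → -(p : ℤ) < z ∧ z < p) {u : G}
    (hu : u ∈ (R : Subgroup G)) (hu1 : u ≠ 1) :
    Subgroup.centralizer ({u} : Set G) = (R : Subgroup G) := by
  classical
  obtain ⟨hRu, hou⟩ := DefectOne.sylow_eq_zpowers R hR hu hu1
  have hp2 : ¬ p ^ 2 ∣ Nat.card G := by
    intro h
    rw [hG, pow_two, show 3 * p * 2 ^ b = p * (3 * 2 ^ b) by ring] at h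
    have h' := Nat.dvd_of_mul_dvd_mul_left hp.out.pos h
    rcases hp.out.dvd_mul.1 h' with h | h
    · exact absurd ((Nat.prime_dvd_prime_iff_eq hp.out Nat.prime_three).1 h) (by omega)
    · exact absurd ((Nat.prime_dvd_prime_iff_eq hp.out Nat.prime_two).1 (hp.out.dvd_of_dvd_pow h))
        (by omega)
  have hvan : ∀ g : G, p ∣ orderOf g → (ψ : G → ℂ) g = 0 := by
    intro g hg
    obtain ⟨n, ρ, hρ, hc⟩ := ψ.2
    haveI := hρ
    have hfr : Module.finrank ℂ (Fin n → ℂ) = p := by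
      have := degree_eq ψ
      rw [← hc, Representation.char_one, hc, hψ] at this
      exact_mod_cast this
    rw [← hc]
    exact Chars.char_eq_zero_of_defect_zero ρ (n := 1) hp.out (by rw [hG]; exact ⟨3 * 2 ^ b, by ring⟩)
      hp2 (by rw [hfr, pow_one]) g hg
  have hRC : (R : Subgroup G) ≤ Subgroup.centralizer ({u} : Set G) := by
    rw [hRu, Subgroup.zpowers_le, Subgroup.mem_centralizer_singleton_iff]
  have honly : ∀ l : ℕ, l.Prime → l ∣ Nat.card (Subgroup.centralizer ({u} : Set G)) → l = p := by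
    intro l hl hd
    by_contra hne
    haveI : Fact l.Prime := ⟨hl⟩
    obtain ⟨w, hw⟩ := exists_prime_orderOf_dvd_card' l hd
    rw [← Subgroup.orderOf_coe] at hw
    have hwu : Commute (w : G) u := Subgroup.mem_centralizer_singleton_iff.1 w.2
    have hl23 : l = 2 ∨ l = 3 := by
      have hd' := hd.trans (Subgroup.card_subgroup_dvd_card _)
      rw [hG, show 3 * p * 2 ^ b = 3 * p ^ 1 * 2 ^ b by rw [pow_one]] at hd'
      rcases prime_dvd_cases hl hp.out Nat.prime_two hd' with h | h | h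
      · exact Or.inr ((Nat.prime_dvd_prime_iff_eq hl Nat.prime_three).1 h)
      · exact absurd h hne
      · exact Or.inl h
    obtain ⟨z, hz⟩ := hint (w : G)
    have hw1 : (w : G) ≠ 1 := fun h => by
      rw [h, orderOf_one] at hw; exact hl.ne_one hw.symm
    have hzb := hlt _ hw1 z hz
    let H := Subgroup.zpowers u
    let K := Subgroup.zpowers (w : G)
    have hHK : ∀ (a : H) (c : K), Commute (H.subtype a) (K.subtype c) := by
      rintro ⟨_, i, rfl⟩ ⟨_, j, rfl⟩
      exact (hwu.symm.zpow_zpow i j)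
    have hKval : ∀ c : K, c ≠ 1 → (ψ : G → ℂ) (c : G) = z := by
      rintro ⟨c, hc⟩ hc1
      have hcw : c = (w : G) ∨ c = (w : G)⁻¹ := by
        obtain ⟨i, hi⟩ := Subgroup.mem_zpowers_iff.1 hc
        have hc0 : c ≠ 1 := fun h => hc1 (Subtype.ext h)
        rw [← zpow_mod_orderOf, hw] at hi
        rcases hl23 with rfl | rfl
        · rcases (show i % (2 : ℕ) = 0 ∨ i % (2 : ℕ) = 1 by omega) with h | h <;> rw [h] at hi
          · exact absurd (by simpa using hi.symm) hc0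
          · exact Or.inl (by simpa using hi.symm)
        · rcases (show i % (3 : ℕ) = 0 ∨ i % (3 : ℕ) = 1 ∨ i % (3 : ℕ) = 2 by omega) with h | h | h <;>
            rw [h] at hi
          · exact absurd (by simpa using hi.symm) hc0
          · exact Or.inl (by simpa using hi.symm)
          · refine Or.inr (hi.symm.trans ?_)
            rw [eq_inv_iff_mul_eq_one, ← zpow_add_one, show (2 : ℤ) + 1 = ((3 : ℕ) : ℤ) by norm_num,
              zpow_natCast, ← hw, pow_orderOf_eq_one]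
      rcases hcw with rfl | rfl
      · exact hz
      · show (ψ : G → ℂ) (w : G)⁻¹ = z
        rw [Chars.irr_inv, hz, map_intCast]
    haveI := Fintype.ofFinite H
    haveI := Fintype.ofFinite K
    obtain ⟨k, hk⟩ := exists_nat_sum_hom (MonoidHom.noncommCoprod H.subtype K.subtype hHK)
      (Chars.irr_isCharacter ψ)
      (fun x => if x.1 = 1 then (if x.2 = 1 then (p : ℤ) else z) else 0) (by
        rintro ⟨a, c⟩
        show (ψ : G → ℂ) ((a : G) * (c : G)) = _
        by_cases ha : a = 1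
        · subst ha
          by_cases hc : c = 1
          · subst hc; simp [degree_eq, hψ]
          · simp [hc, hKval c hc]
        · have hoa : orderOf (a : G) = p := by
            rcases hp.out.eq_one_or_self_of_dvd (orderOf (a : G)) (by
              have := Subgroup.orderOf_dvd_natCard H a.2
              rwa [Nat.card_zpowers, hou] at this) with h | h
            · exact absurd (Subtype.ext (orderOf_eq_one_iff.1 h)) ha
            · exact h
          have hoc : orderOf (c : G) ∣ l := by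
            have := Subgroup.orderOf_dvd_natCard K c.2
            rwa [Nat.card_zpowers, hw] at this
          have hcop : (orderOf (a : G)).Coprime (orderOf (c : G)) := by
            rw [hoa]
            exact ((Nat.coprime_primes hp.out hl).2 (Ne.symm hne)).coprime_dvd_right hoc
          rw [hvan _ (by
            rw [(show Commute (a : G) (c : G) from hHK a c).orderOf_mul_eq_mul_orderOf_of_coprime hcop]
            exact (dvd_of_eq hoa.symm).mul_right _)]
          simp [ha])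
    rw [Fintype.sum_prod_type, Finset.sum_eq_single (1 : H) (fun a _ ha => by simp [ha]) (by simp),
      Nat.card_prod, Nat.card_zpowers, hou, Nat.card_zpowers, hw] at hk
    simp only [if_true] at hk
    rw [← Finset.add_sum_erase _ _ (Finset.mem_univ (1 : K)), if_pos rfl,
      Finset.sum_congr rfl fun c hc => if_neg (Finset.ne_of_mem_erase hc), Finset.sum_const,
      Finset.card_erase_of_mem (Finset.mem_univ _), Finset.card_univ, nsmul_eq_mul,
      ← Nat.card_eq_fintype_card, Nat.card_zpowers, hw] at hk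
    have hz0 : z = 0 := by
      have hd : (p : ℤ) ∣ ((l - 1 : ℕ) : ℤ) * z := ⟨(l : ℤ) * k - 1, by push_cast at hk ⊢; linear_combination hk⟩
      rcases (Nat.prime_iff_prime_int.1 hp.out).dvd_mul.1 hd with h | h
      · have := Nat.le_of_dvd (by have := hl.two_le; omega) (Int.natCast_dvd_natCast.1 h)
        omega
      · exact Int.eq_zero_of_abs_lt_dvd h (abs_lt.2 hzb)
    subst hz0
    rw [mul_zero, add_zero] at hk
    have h1 : l * k = 1 := by
      have h' : (p : ℤ) * 1 = (p : ℤ) * ((l * k : ℕ) : ℤ) := by push_cast at hk ⊢; linear_combination hk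
      have := mul_left_cancel₀ (Int.natCast_ne_zero.2 hp.out.ne_zero) h'
      exact_mod_cast this.symm
    exact hl.ne_one (Nat.eq_one_of_mul_eq_one_right h1)
  have hpow : Nat.card (Subgroup.centralizer ({u} : Set G)) ∣ p := by
    obtain ⟨i, hi⟩ : ∃ i, Nat.card (Subgroup.centralizer ({u} : Set G)) = p ^ i :=
      ⟨_, Nat.eq_prime_pow_of_unique_prime_dvd Nat.card_pos.ne' fun {d} hd h => honly d hd h⟩
    rw [hi]
    have hi1 : i ≤ 1 := by
      by_contra h
      exact hp2 ((pow_dvd_pow p (show 2 ≤ i by omega)).trans (hi ▸ Subgroup.card_subgroup_dvd_card _))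
    exact (pow_dvd_pow p hi1).trans (dvd_of_eq (pow_one p))
  exact (Subgroup.eq_of_le_of_card_ge hRC (hR.symm ▸ Nat.le_of_dvd hp.out.pos hpow)).symm

/-- The automiser of order 6 is impossible. -/
theorem not_six_dvd [IsSimpleGroup G] (hna : ¬ IsMulCommutative G) {p b : ℕ} [hp : Fact p.Prime]
    (hp5 : 7 ≤ p) (hp4 : p % 4 = 3) (hp3 : p % 3 = 1) (hG : Nat.card G = 3 * p * 2 ^ b)
    {M : Ideal AlgInt} (hM : IsPModular 3 M) (R : Sylow p G) (hR : Nat.card R = p) {u : G}
    (hu : u ∈ (R : Subgroup G)) (hu1 : u ≠ 1)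
    (hC : Subgroup.centralizer ({u} : Set G) = (R : Subgroup G)) (ψ : IrrCharacter G)
    (hψB : ψ ∈ principalBlock M G) (hψ : charDegree (ψ : G → ℂ) = p)
    (hint : ∀ g, ∃ z : ℤ, (ψ : G → ℂ) g = z)
    (h0 : ∀ g ∈ (R : Subgroup G), g ≠ 1 → (ψ : G → ℂ) g = 0)
    (h6 : 6 ∣ (Subgroup.centralizer ((R : Subgroup G) : Set G)).relIndex
      (Subgroup.normalizer ((R : Subgroup G) : Set G))) : False := by
  classical
  cases nonempty_fintype G
  haveI : Fact (Nat.Prime 3) := ⟨Nat.prime_three⟩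
  haveI : Fact (Nat.Prime 2) := ⟨Nat.prime_two⟩
  haveI := Blocks.isPModular_isPrime hM
  obtain ⟨hRu, hou⟩ := DefectOne.sylow_eq_zpowers R hR hu hu1
  set N := Subgroup.normalizer ((R : Subgroup G) : Set G) with hN
  set f := (R : Subgroup G).normalizerMonoidHom with hf
  have hker : f.ker = (Subgroup.centralizer ((R : Subgroup G) : Set G)).subgroupOf N :=
    Subgroup.normalizerMonoidHom_ker (R : Subgroup G)
  haveI : IsCyclic (R : Subgroup G) := isCyclic_of_prime_card hR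
  have hcomm : ∀ s t : MulAut (R : Subgroup G), Commute s t := by
    intro s t
    obtain ⟨m, hm⟩ := MonoidHom.map_cyclic s.toMonoidHom
    obtain ⟨n, hn⟩ := MonoidHom.map_cyclic t.toMonoidHom
    refine MulEquiv.ext fun g => ?_
    show s (t g) = t (s g)
    have e1 : t g = g ^ n := hn g
    have e2 : s g = g ^ m := hm g
    rw [e1, map_zpow, e2, map_zpow, e1, ← zpow_mul, ← zpow_mul, mul_comm]
  have h6N : 6 ∣ Nat.card N := h6.trans (Subgroup.relIndex_dvd_card _ _)
  obtain ⟨v₀, hv₀⟩ := exists_prime_orderOf_dvd_card' 2 ((by norm_num : 2 ∣ 6).trans h6N)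
  obtain ⟨x₀, hx₀⟩ := exists_prime_orderOf_dvd_card' 3 ((by norm_num : 3 ∣ 6).trans h6N)
  have hne : ∀ (l : ℕ) (w : N), l.Prime → l ≠ p → orderOf w = l → orderOf (f w) = l := by
    intro l w hl hlp hw
    rcases hl.eq_one_or_self_of_dvd _ (hw ▸ orderOf_map_dvd f w) with h | h
    · exfalso
      have hwk : w ∈ f.ker := MonoidHom.mem_ker.2 (orderOf_eq_one_iff.1 h)
      rw [hker, Subgroup.mem_subgroupOf, DefectOne.centralizer_sylow R hR hu hu1, hC] at hwk
      have := Subgroup.orderOf_dvd_natCard _ hwk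
      rw [hR, Subgroup.orderOf_coe, hw] at this
      exact hlp ((Nat.prime_dvd_prime_iff_eq hl hp.out).1 this)
    · exact h
  have hfy : orderOf (f (v₀ * x₀)) = 6 := by
    rw [map_mul, (hcomm _ _).orderOf_mul_eq_mul_orderOf_of_coprime (by
      rw [hne 2 v₀ Nat.prime_two (by omega) hv₀, hne 3 x₀ Nat.prime_three (by omega) hx₀]
      norm_num), hne 2 v₀ Nat.prime_two (by omega) hv₀, hne 3 x₀ Nat.prime_three (by omega) hx₀]
  set y := v₀ * x₀ with hy
  have h6y : 6 ∣ orderOf y := hfy ▸ orderOf_map_dvd f y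
  obtain ⟨c, hc⟩ := h6y
  have hcpos : 0 < c := by
    rcases Nat.eq_zero_or_pos c with h | h
    · rw [h, mul_zero] at hc
      exact absurd hc (orderOf_pos y).ne'
    · exact h
  have hoz : orderOf (y ^ c) = 6 := by
    rw [orderOf_pow_of_dvd hcpos.ne' (Dvd.intro_left 6 hc.symm), hc, Nat.mul_div_cancel _ hcpos]
  have hov : orderOf ((y ^ c) ^ 3) = 2 := by
    rw [orderOf_pow_of_dvd (by norm_num) (by rw [hoz]; norm_num), hoz]
  have hox : orderOf ((y ^ c) ^ 2) = 3 := by
    rw [orderOf_pow_of_dvd (by norm_num) (by rw [hoz]; norm_num), hoz]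
  have hvx : Commute ((y ^ c) ^ 3) ((y ^ c) ^ 2) := Commute.pow_pow (Commute.refl _) 3 2
  set vN := (y ^ c) ^ 3 with hvN
  set xN := (y ^ c) ^ 2 with hxN
  set v : G := (vN : G) with hv
  set x : G := (xN : G) with hx
  have hv2 : orderOf v = 2 := by rw [hv, Subgroup.orderOf_coe, hov]
  have hx3 : orderOf x = 3 := by rw [hx, Subgroup.orderOf_coe, hox]
  have hvx' : Commute v x := congrArg Subtype.val hvx.eq
  have hvv : v * v = 1 := by
    have := pow_orderOf_eq_one v
    rwa [hv2, pow_two] at this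
  have hinv : v * u * v⁻¹ = u⁻¹ := by
    have hmem : v * u * v⁻¹ ∈ (R : Subgroup G) :=
      (Subgroup.mem_normalizer_iff.1 vN.2 u).1 hu
    rw [hRu] at hmem
    obtain ⟨m, hm⟩ := Subgroup.mem_zpowers_iff.1 hmem
    have hmm : u ^ (m * m) = u := by
      have hvi : v⁻¹ = v := inv_eq_of_mul_eq_one_left hvv
      rw [zpow_mul, hm, conj_zpow, hm]
      calc v * (v * u * v⁻¹) * v⁻¹ = (v * v) * u * (v⁻¹ * v⁻¹) := by group
        _ = u := by rw [hvi, hvv, one_mul, mul_one]
    have hd : (p : ℤ) ∣ m * m - 1 := by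
      rw [← hou, orderOf_dvd_iff_zpow_eq_one, zpow_sub, hmm, zpow_one, mul_inv_cancel]
    rcases (Nat.prime_iff_prime_int.1 hp.out).dvd_mul.1
      (show (p : ℤ) ∣ (m - 1) * (m + 1) by rwa [show (m - 1) * (m + 1) = m * m - 1 by ring]) with h | h
    · exfalso
      rw [← hou, orderOf_dvd_iff_zpow_eq_one, zpow_sub, hm, zpow_one, mul_inv_eq_one] at h
      have hcomm' : v ∈ Subgroup.centralizer ({u} : Set G) :=
        Subgroup.mem_centralizer_singleton_iff.2 (mul_inv_eq_iff_eq_mul.1 h)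
      rw [hC] at hcomm'
      have := Subgroup.orderOf_dvd_natCard _ hcomm'
      rw [hR, hv2] at this
      exact absurd ((Nat.prime_dvd_prime_iff_eq Nat.prime_two hp.out).1 this) (by omega)
    · rw [← hou, orderOf_dvd_iff_zpow_eq_one, zpow_add, hm, zpow_one] at h
      exact eq_inv_of_mul_eq_one_left h
  obtain ⟨z, hz⟩ := hint v
  have hbound := abs_le_one_of_inverting hp.out (by omega) hou hvv hinv (Chars.irr_isCharacter ψ)
    (by rw [degree_eq, hψ]) (fun g hg => h0 g (hRu ▸ hg)) hz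
  have h4 := four_dvd_degree_sub hna ψ hv2 hz
  rw [hψ] at h4
  -- the congruence modulo three
  obtain ⟨P, hxP⟩ : ∃ P : Sylow 3 G, x ∈ (P : Subgroup G) := by
    obtain ⟨P, hP⟩ := (IsPGroup.of_card (p := 3) (n := 1)
      (show Nat.card (Subgroup.zpowers x) = 3 ^ 1 by rw [Nat.card_zpowers, hx3, pow_one])).exists_le_sylow
    exact ⟨P, hP (Subgroup.mem_zpowers x)⟩
  have hP3 : Nat.card (P : Subgroup G) = 3 := by
    have h : ¬ 3 ∣ p * 2 ^ b := fun h => by
      rcases Nat.prime_three.dvd_mul.1 h with h | h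
      · exact absurd ((Nat.prime_dvd_prime_iff_eq Nat.prime_three hp.out).1 h) (by omega)
      · exact absurd ((Nat.prime_dvd_prime_iff_eq Nat.prime_three Nat.prime_two).1
          (Nat.prime_three.dvd_of_dvd_pow h)) (by norm_num)
    simpa using SmallGroups.card_sylow_eq P (k := 1) (by rw [hG]; ring) h
  have hx1 : x ≠ 1 := fun h => by rw [h, orderOf_one] at hx3; omega
  have hreg : ¬ 3 ∣ orderOf v := by rw [hv2]; norm_num
  have heq := apply_mul_of_mem hM P hP3 hψB hxP hx1 hvx' hreg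
  have hpart : IsPPart 3 (x * v) x := ⟨v, rfl, hvx'.symm, ⟨1, by rw [hx3, pow_one]⟩, hreg⟩
  have hcong := Blocks.memLocalIdeal_char_sub hM (Chars.irr_isCharacter ψ) hpart
  obtain ⟨w, hw⟩ := hint x
  rw [heq, inv_mul_cancel_left, hw, hz, ← Int.cast_sub, Blocks.memLocalIdeal_intCast_iff hM] at hcong
  have hcong' := dvd_sub_charDegree Nat.prime_three ψ (v := x) (k := 1)
    (by rw [pow_one, ← hx3, pow_orderOf_eq_one]) hw
  rw [hψ] at hcong'
  push_cast at hcong hcong'
  omega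

/-- The automiser of order 3 forces the order 168. -/
theorem card_eq_of_index_three [IsSimpleGroup G] (hna : ¬ IsMulCommutative G) {p b k : ℕ}
    [hp : Fact p.Prime] (hp5 : 7 ≤ p) (hb : 1 ≤ b) (hk : 2 ^ k = p + 1)
    (hG : Nat.card G = 3 * p * 2 ^ b) (R : Sylow p G) (hR : Nat.card R = p) {u : G}
    (hu : u ∈ (R : Subgroup G)) (hu1 : u ≠ 1)
    (hC : Subgroup.centralizer ({u} : Set G) = (R : Subgroup G)) (φ : IrrCharacter G)
    (hφ : charDegree (φ : G → ℂ) = 2 ^ k)
    (hφint : ∀ g, ¬ 3 ∣ orderOf g → ∃ z : ℤ, (φ : G → ℂ) g = z) (hφu : (φ : G → ℂ) u = 1)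
    (he : (Subgroup.centralizer ((R : Subgroup G) : Set G)).relIndex
      (Subgroup.normalizer ((R : Subgroup G) : Set G)) = 3)
    (hn : 2 ^ b % p = 1) : Nat.card G = 168 := by
  classical
  cases nonempty_fintype G
  obtain ⟨M, hM⟩ := CharCount.exists_isPModular p hp.out
  haveI := Blocks.isPModular_isPrime hM
  obtain ⟨A, B, δ, ε, hblock, hdisj, hA, hB, hAprop, hε, hBdeg, hrel⟩ :=
    DefectOne.exists_principal hM R hR 3 he
  have hmem : ∀ χ : IrrCharacter G, χ ∈ principalBlock M G ↔ χ ∈ A ∨ χ ∈ B := fun χ => by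
    rw [hblock]; simp
  have hnotB : ∀ χ : IrrCharacter G, (charDegree (χ : G → ℂ) : ℤ) ≡ 1 [ZMOD p] → χ ∉ B := by
    intro χ hχ h
    have h2 := Int.modEq_iff_dvd.1 (hχ.symm.trans (hBdeg χ h))
    have h3 : (ε * (3 : ℕ) - 1 : ℤ) ≠ 0 := by rcases hε with rfl | rfl <;> norm_num
    have := Int.natAbs_le_of_dvd_ne_zero h2 h3
    rcases hε with rfl | rfl <;> norm_num at this <;> omega
  have hδ1 : ∀ χ : IrrCharacter G, χ ∈ A → (charDegree (χ : G → ℂ) : ℤ) ≡ 1 [ZMOD p] → δ χ = 1 := by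
    intro χ hχ hc
    obtain ⟨h, h', -⟩ := hAprop χ hχ
    refine h.resolve_right fun e => ?_
    rw [e] at h'
    have h2 := Int.le_of_dvd (by norm_num) (Int.modEq_iff_dvd.1 (h'.symm.trans hc))
    omega
  have hdeg1 : charDegree (Chars.trivialIrr G : G → ℂ) = 1 := by simp [charDegree]
  have htc : (charDegree (Chars.trivialIrr G : G → ℂ) : ℤ) ≡ 1 [ZMOD p] := by rw [hdeg1]; rfl
  have hφc : (charDegree (φ : G → ℂ) : ℤ) ≡ 1 [ZMOD p] := by
    rw [hφ, hk, Int.modEq_iff_dvd]
    exact ⟨-1, by push_cast; ring⟩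
  have htA : Chars.trivialIrr G ∈ A := ((hmem _).1
    (mem_of_apply_ne_zero hM R hR hu hu1 hC (by simp))).resolve_right (hnotB _ htc)
  have hφA : φ ∈ A := ((hmem _).1
    (mem_of_apply_ne_zero hM R hR hu hu1 hC (by rw [hφu]; exact one_ne_zero))).resolve_right
      (hnotB _ hφc)
  have hφt : φ ≠ Chars.trivialIrr G := fun h => by
    rw [h, hdeg1] at hφ
    omega
  have hφA' : φ ∈ A.erase (Chars.trivialIrr G) := Finset.mem_erase.2 ⟨hφt, hφA⟩
  obtain ⟨X, hX⟩ : ∃ X, (A.erase (Chars.trivialIrr G)).erase φ = {X} := Finset.card_eq_one.1 (by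
    rw [Finset.card_erase_of_mem hφA', Finset.card_erase_of_mem htA, hA])
  have hXmem : X ∈ (A.erase (Chars.trivialIrr G)).erase φ := hX ▸ Finset.mem_singleton_self X
  simp only [Finset.mem_erase] at hXmem
  obtain ⟨-, hXt, hXA⟩ := hXmem
  have hAcases : ∀ χ ∈ A, χ = Chars.trivialIrr G ∨ χ = φ ∨ χ = X := by
    intro χ hχ
    by_contra h
    push Not at h
    have : χ ∈ (A.erase (Chars.trivialIrr G)).erase φ := by simp [h.1, h.2.1, hχ]
    rw [hX, Finset.mem_singleton] at this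
    exact h.2.2 this
  have hrel' : ∀ θ ∈ B, ∀ g : G, ¬ p ∣ orderOf g → (ε : ℂ) * (θ : G → ℂ) g =
      1 + (φ : G → ℂ) g + (δ X : ℂ) * (X : G → ℂ) g := by
    intro θ hθ g hg
    rw [hrel θ hθ g hg, ← Finset.add_sum_erase A _ htA, ← Finset.add_sum_erase _ _ hφA', hX,
      Finset.sum_singleton, hδ1 _ htA htc, hδ1 _ hφA hφc, Chars.trivialIrr_apply]
    push_cast
    ring
  obtain ⟨hdX, hXc, hXval⟩ := hAprop X hXA
  obtain ⟨θ, hθ⟩ : B.Nonempty := by
    rw [← Finset.card_pos, hB]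
    exact Nat.div_pos (by omega) (by norm_num)
  have hθt : θ ≠ Chars.trivialIrr G := fun h => Finset.disjoint_left.1 hdisj htA (h ▸ hθ)
  have hX1 := one_lt_degree hna X fun h => hXt (Subtype.ext h)
  have hY1 := one_lt_degree hna θ fun h => hθt (Subtype.ext h)
  have heq : ∀ θ' ∈ B, ε * (charDegree (θ' : G → ℂ) : ℤ) =
      2 + (p : ℤ) + δ X * (charDegree (X : G → ℂ) : ℤ) := by
    intro θ' hθ'
    have h := hrel' θ' hθ' 1 (by simpa using hp.out.ne_one)
    rw [degree_eq, degree_eq, degree_eq, hφ, hk] at h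
    have h' : ε * (charDegree (θ' : G → ℂ) : ℤ) =
        1 + ((p + 1 : ℕ) : ℤ) + δ X * (charDegree (X : G → ℂ) : ℤ) := by exact_mod_cast h
    rw [h']
    push_cast
    ring
  have hdiv : ∀ (χ : IrrCharacter G) (d : ℤ), ¬ (p : ℤ) ∣ d →
      (charDegree (χ : G → ℂ) : ℤ) ≡ d [ZMOD p] → charDegree (χ : G → ℂ) ∣ 3 * 2 ^ b := by
    intro χ d hd hc
    have hnp : ¬ p ∣ charDegree (χ : G → ℂ) := fun h =>
      hd ((Int.ModEq.dvd_iff hc).1 (Int.natCast_dvd_natCast.2 h))
    refine (hp.out.coprime_iff_not_dvd.2 hnp).symm.dvd_of_dvd_mul_left (m := p) ?_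
    have := degree_dvd_card χ
    rwa [hG, show 3 * p * 2 ^ b = p * (3 * 2 ^ b) by ring] at this
  have hnd : ∀ d : ℤ, d ≠ 0 → d.natAbs < p → ¬ (p : ℤ) ∣ d := fun d hd hlt h =>
    absurd (Int.natAbs_le_of_dvd_ne_zero h hd) (by simp; omega)
  have hθc : (charDegree (θ : G → ℂ) : ℤ) ≡ ε * 3 [ZMOD p] := by simpa using hBdeg θ hθ
  obtain ⟨hp7, hX6, hY3, hδX, hε1⟩ := degrees_of_index_three hp5 hk
    (hdiv X _ (hnd _ (by omega) (by omega)) hXc) (hdiv θ _ (hnd _ (by omega) (by omega)) hθc)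
    hX1 hY1 hdX hε (Int.modEq_iff_dvd.1 hXc.symm)
    (by rw [mul_comm]; exact Int.modEq_iff_dvd.1 hθc.symm) (heq θ hθ)
  subst hp7
  obtain rfl : k = 3 := Nat.pow_right_injective le_rfl (show 2 ^ k = 2 ^ 3 by rw [hk])
  have hXfix : ∀ σ : ℂ ≃+* ℂ, GaloisChar.galIrr (σ : ℂ →+* ℂ) X = X := by
    intro σ
    have hu' : (GaloisChar.galIrr (σ : ℂ →+* ℂ) X : G → ℂ) u = (δ X : ℂ) := by
      have := hXval u hu hu1 1 (Subgroup.one_mem _) (by simpa using hp.out.ne_one)
      rw [mul_one] at this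
      rw [GaloisChar.galIrr_apply, this, map_intCast]
    have hd : charDegree (GaloisChar.galIrr (σ : ℂ →+* ℂ) X : G → ℂ) = 6 :=
      (charDegree_galIrr _ _).trans hX6
    rcases (hmem _).1 (mem_of_apply_ne_zero hM R hR hu hu1 hC
      (by rw [hu', Int.cast_ne_zero]; omega)) with h | h
    · rcases hAcases _ h with e | e | e
      · rw [e, hdeg1] at hd; omega
      · rw [e, hφ] at hd; norm_num at hd
      · exact e
    · exfalso
      have := heq _ h
      rw [hd, hX6, hδX, hε1] at this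
      norm_num at this
  haveI : Fact (Nat.Prime 2) := ⟨Nat.prime_two⟩
  obtain ⟨T⟩ : Nonempty (Sylow 2 G) := inferInstance
  have hT : Nat.card (T : Subgroup G) = 2 ^ b :=
    SmallGroups.card_sylow_eq T (m := 21) (by rw [hG]; ring) (by norm_num)
  have hval : ∀ g ∈ (T : Subgroup G), g ≠ 1 →
      ((θ : G → ℂ) * (θ : G → ℂ)) g = ((1 : ℤ) : ℂ) := by
    intro g hg hg1
    obtain ⟨j, hj⟩ := pow_card_sylow T hg
    obtain ⟨i, -, hi⟩ := (Nat.dvd_prime_pow Nat.prime_two).1 (orderOf_dvd_of_pow_eq_one hj)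
    have h3 : ¬ 3 ∣ orderOf g := by
      rw [hi]
      exact fun h => absurd ((Nat.prime_dvd_prime_iff_eq Nat.prime_three Nat.prime_two).1
        (Nat.prime_three.dvd_of_dvd_pow h)) (by norm_num)
    have h7 : ¬ 7 ∣ orderOf g := by
      rw [hi]
      exact fun h => absurd ((Nat.prime_dvd_prime_iff_eq hp.out Nat.prime_two).1
        (hp.out.dvd_of_dvd_pow h)) (by norm_num)
    obtain ⟨zf, hzf⟩ := hφint g h3
    obtain ⟨zX, hzX⟩ := exists_int_of_fixed (Chars.irr_isIntegral X g) fun σ =>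
      congrFun (congrArg Subtype.val (hXfix σ)) g
    obtain ⟨z, hz⟩ : ∃ z : ℤ, (θ : G → ℂ) g = z := ⟨1 + zf - zX, by
      have := hrel' θ hθ g h7
      rw [hε1, hδX, hzf, hzX] at this
      push_cast at this ⊢
      linear_combination this⟩
    have hlt := abs_lt_degree hna θ (fun h => hθt (Subtype.ext h)) hg1 hz
    have hmod := dvd_sub_charDegree Nat.prime_two θ hj hz
    rw [hY3] at hlt hmod
    rw [Pi.mul_apply, hz, ← Int.cast_mul]
    push_cast at hlt hmod
    rcases (show z = 1 ∨ z = -1 by omega) with rfl | rfl <;> norm_num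
  have hd := card_dvd_of_const (T : Subgroup G)
    (Chars.isCharacter_mul (Chars.irr_isCharacter θ) (Chars.irr_isCharacter θ))
    (d := 9) (by rw [Pi.mul_apply, degree_eq, hY3]; norm_num) hval
  rw [hT] at hd
  have hb3 : b ≤ 3 := by
    have h8 : 2 ^ b ∣ 2 ^ 3 := by
      have e : ((2 ^ b : ℕ) : ℤ) ∣ ((2 ^ 3 : ℕ) : ℤ) := by simpa using hd
      exact Int.natCast_dvd_natCast.1 e
    exact (Nat.pow_dvd_pow_iff_le_right (by norm_num)).1 h8
  rw [hG]
  interval_cases b <;> revert hn <;> norm_num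

end Cfsg.Agent.Lib.H66.SmallCofactor
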